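import Mathlib
import Cfsg.Agent.Lib.PGroup.Basic
import Cfsg.Agent.FG75.MetaClosed

/-!
# Groups acting on a plane over the field of `p` elements
-/

set_option autoImplicit false
set_option linter.all false

namespace Cfsg.Agent.FG75.RankTwo

open Cfsg.Agent

variable {p : ℕ} [hp : Fact p.Prime]

section Restrict

variable {X : Type*} [Group X]

/-- The action of the automorphism group on a characteristic subgroup. -/
def restrictChar (C : Subgroup X) [hC : C.Characteristic] : MulAut X →* MulAut C where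
  toFun α :=
    { toFun := fun x => ⟨α x, (Subgroup.characteristic_iff_le_comap.mp hC α) x.2⟩
      invFun := fun x => ⟨α.symm x, (Subgroup.characteristic_iff_le_comap.mp hC α.symm) x.2⟩
      left_inv := fun x => Subtype.ext (α.symm_apply_apply x)
      right_inv := fun x => Subtype.ext (α.apply_symm_apply x)
      map_mul' := fun x y => Subtype.ext (map_mul α (x : X) y) }
  map_one' := rfl
  map_mul' _ _ := rfl

@[simp] theorem restrictChar_apply (C : Subgroup X) [C.Characteristic] (α : MulAut X) (x : C) :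
    (restrictChar C α x : X) = α x := rfl

/-- The action of the automorphism group on the central quotient. -/
def quotCenter (X : Type*) [Group X] : MulAut X →* MulAut (X ⧸ Subgroup.center X) where
  toFun α := QuotientGroup.congr _ _ α (Subgroup.characteristic_iff_map_eq.mp inferInstance α)
  map_one' := MulEquiv.ext fun x => by
    obtain ⟨y, rfl⟩ := QuotientGroup.mk_surjective x
    rfl
  map_mul' α β := MulEquiv.ext fun x => by
    obtain ⟨y, rfl⟩ := QuotientGroup.mk_surjective x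
    rfl

@[simp] theorem quotCenter_mk (α : MulAut X) (x : X) :
    quotCenter X α (QuotientGroup.mk x) = QuotientGroup.mk (α x) := rfl

end Restrict

/-- Some power of an element has order prime to `p`. -/
theorem coprime_part {G : Type*} [Group G] [Finite G] (g : G) :
    ∃ k : ℕ, (orderOf (g ^ p ^ k)).Coprime p := by
  refine ⟨(orderOf g).factorization p, ?_⟩
  rw [orderOf_pow' g (pow_ne_zero _ hp.out.ne_zero), Nat.gcd_eq_right (Nat.ordProj_dvd _ _)]
  exact (Nat.coprime_ordCompl hp.out (orderOf_pos g).ne').symm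

theorem eq_one_of_coprime {G : Type*} [Group G] {K : Subgroup G} (hK : IsPGroup p K) {g : G} (hg : g ∈ K)
    (h : (orderOf g).Coprime p) : g = 1 := by
  obtain ⟨k, hk⟩ := hK ⟨g, hg⟩
  have h1 : orderOf g ∣ p ^ k := orderOf_dvd_of_pow_eq_one (congrArg Subtype.val hk)
  exact orderOf_eq_one_iff.mp (Nat.Coprime.eq_one_of_dvd (Nat.Coprime.pow_right k h) h1)

theorem zpow_congr {W : Type*} [Group W] {x : W} (hx : x ^ p = 1) {i j : ℤ} (h : (i : ZMod p) = j) :
    x ^ i = x ^ j := by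
  rw [zpow_eq_zpow_iff_modEq]
  exact Int.ModEq.of_dvd (Int.natCast_dvd_natCast.mpr (orderOf_dvd_of_pow_eq_one hx))
    ((ZMod.intCast_eq_intCast_iff _ _ _).mp h)

theorem dvd_of_zpow_eq_one {W : Type*} [Group W] {x : W} (hx : x ^ p = 1) (h1 : x ≠ 1) {i : ℤ}
    (h : x ^ i = 1) : (p : ℤ) ∣ i := by
  have := orderOf_dvd_iff_zpow_eq_one.mpr h
  rwa [orderOf_eq_prime hx h1] at this

/-- A plane: an elementary abelian group of order `p²`. -/
structure Plane (p : ℕ) (W : Type*) [Group W] : Prop where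
  finite : Finite W
  card : Nat.card W = p ^ 2
  comm : ∀ x y : W, x * y = y * x
  pow : ∀ x : W, x ^ p = 1

variable {W : Type*} [Group W]

theorem Plane.normal (hW : Plane p W) (L : Subgroup W) : L.Normal :=
  ⟨fun x hx g => by rwa [hW.comm g x, mul_inv_cancel_right]⟩

theorem Plane.card_zpowers (hW : Plane p W) {e : W} (he : e ≠ 1) : Nat.card (Subgroup.zpowers e) = p := by
  rw [Nat.card_zpowers, orderOf_eq_prime (hW.pow e) he]

theorem Plane.sub_cases (hW : Plane p W) {L : Subgroup W} {e : W} (he : e ≠ 1) (hL : e ∈ L) :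
    L = Subgroup.zpowers e ∨ L = ⊤ := by
  haveI := hW.finite
  have hle := Subgroup.zpowers_le.mpr hL
  obtain ⟨k, hk, hkc⟩ := (Nat.dvd_prime_pow hp.out).mp (hW.card ▸ L.card_subgroup_dvd_card)
  have h1 := Subgroup.card_dvd_of_le hle
  rw [hW.card_zpowers he, hkc] at h1
  interval_cases k
  · simp at h1; exact absurd h1 hp.out.one_lt.ne'
  · left
    exact (Subgroup.eq_of_le_of_card_ge hle (by rw [hW.card_zpowers he, hkc, pow_one])).symm
  · right
    exact Subgroup.eq_top_of_card_eq _ (by rw [hkc, hW.card])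

theorem Plane.span (hW : Plane p W) {e f : W} (he : e ≠ 1) (hf : f ∉ Subgroup.zpowers e) (w : W) :
    ∃ i j : ℤ, w = e ^ i * f ^ j := by
  have htop : Subgroup.zpowers e ⊔ Subgroup.zpowers f = ⊤ := by
    refine (hW.sub_cases he (Subgroup.mem_sup_left (Subgroup.mem_zpowers e))).resolve_left fun h => hf ?_
    rw [← h]
    exact Subgroup.mem_sup_right (Subgroup.mem_zpowers f)
  haveI := hW.normal (Subgroup.zpowers e)
  obtain ⟨a, ha, b, hb, hab⟩ := Subgroup.mem_sup_of_normal_left.mp (htop ▸ Subgroup.mem_top w :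
    w ∈ Subgroup.zpowers e ⊔ Subgroup.zpowers f)
  obtain ⟨i, rfl⟩ := Subgroup.mem_zpowers_iff.mp ha
  obtain ⟨j, rfl⟩ := Subgroup.mem_zpowers_iff.mp hb
  exact ⟨i, j, hab.symm⟩

variable {G : Type*} [Group G] [Finite G]

/-- The line fixed by a Sylow subgroup acting nontrivially. -/
structure Line (ψ : G →* MulAut W) (T : Sylow p G) (e : W) : Prop where
  ne : e ≠ 1
  fixed : ∀ g ∈ T, ψ g e = e
  quot : ∀ g ∈ T, ∀ w, w⁻¹ * ψ g w ∈ Subgroup.zpowers e
  mem : ∀ g, ψ g e = e → (∀ w, w⁻¹ * ψ g w ∈ Subgroup.zpowers e) → g ∈ T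
  moved : ∃ g ∈ T, ∀ w, ψ g w = w → w ∈ Subgroup.zpowers e

theorem exists_line (hW : Plane p W) (ψ : G →* MulAut W) (hker : IsPGroup p ψ.ker) (T : Sylow p G)
    (hT : ∃ g ∈ T, ψ g ≠ 1) : ∃ e, Line ψ T e := by
  haveI := hW.finite
  have hM : IsPGroup p ((T : Subgroup G).map ψ) := T.2.map ψ
  have hd : p ∣ Nat.card W := hW.card ▸ dvd_pow_self p two_ne_zero
  have hone : (1 : W) ∈ MulAction.fixedPoints ↥((T : Subgroup G).map ψ) W := fun m => map_one (m : MulAut W)
  obtain ⟨e, he, hne⟩ := hM.exists_fixed_point_of_prime_dvd_card_of_fixed_point W hd hone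
  have hfix : ∀ g ∈ T, ψ g e = e := fun g hg => he ⟨ψ g, Subgroup.mem_map_of_mem _ hg⟩
  have he1 : e ≠ 1 := hne.symm
  have hpk : ∀ g ∈ T, ∃ k, (ψ g) ^ p ^ k = 1 := fun g hg => by
    obtain ⟨k, hk⟩ := T.2 ⟨g, hg⟩
    exact ⟨k, by rw [← map_pow, show g ^ p ^ k = 1 from congrArg Subtype.val hk, map_one]⟩
  have hq : ∀ g ∈ T, ∀ w, w⁻¹ * ψ g w ∈ Subgroup.zpowers e := by
    intro g hg w
    obtain ⟨k, hk⟩ := hpk g hg
    haveI := hW.normal (Subgroup.zpowers e)
    refine MetaClosed.aut_trivial_quotient (ψ g) hk _ (fun y hy => ?_) ?_ w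
    · obtain ⟨i, rfl⟩ := Subgroup.mem_zpowers_iff.mp hy
      rw [map_zpow, hfix g hg]
      exact hy
    · have := Subgroup.card_eq_card_quotient_mul_card_subgroup (Subgroup.zpowers e)
      rw [hW.card, hW.card_zpowers he1, sq] at this
      exact dvd_of_eq (Nat.eq_of_mul_eq_mul_right hp.out.pos this).symm
  let U : Subgroup G :=
    { carrier := {g | ψ g e = e ∧ ∀ w, w⁻¹ * ψ g w ∈ Subgroup.zpowers e}
      one_mem' := ⟨by simp, fun w => by simp⟩
      mul_mem' := fun {a b} ha hb => ⟨by rw [map_mul, MulAut.mul_apply, hb.1, ha.1], fun w => by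
        have h := Subgroup.mul_mem _ (hb.2 w) (ha.2 (ψ b w))
        rwa [mul_assoc, mul_inv_cancel_left, ← MulAut.mul_apply, ← map_mul] at h⟩
      inv_mem' := fun {a} ha => ⟨by rw [map_inv]; exact (MulEquiv.symm_apply_eq _).mpr ha.1.symm, fun w => by
        have h := Subgroup.inv_mem _ (ha.2 ((ψ a)⁻¹ w))
        rwa [MulAut.apply_inv_self, mul_inv_rev, inv_inv, ← map_inv] at h⟩ }
  have hU : IsPGroup p U := by
    rintro ⟨g, hg1, hg2⟩
    have hkey : ψ (g ^ p) = 1 := MulEquiv.ext fun w => by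
      obtain ⟨i, hi⟩ := Subgroup.mem_zpowers_iff.mp (hg2 w)
      have hw : ψ g w = w * e ^ i := by rw [hi, mul_inv_cancel_left]
      have hiter : ∀ m : ℕ, (ψ g ^ m) w = w * (e ^ i) ^ m := by
        intro m
        induction m with
        | zero => simp
        | succ m ih =>
          rw [pow_succ', MulAut.mul_apply, ih, map_mul, map_pow, map_zpow, hg1, hw, mul_assoc, ← pow_succ']
      rw [map_pow, hiter, hW.pow, mul_one]
      rfl
    obtain ⟨k, hk⟩ := hker ⟨g ^ p, hkey⟩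
    exact ⟨k + 1, Subtype.ext (by
      show g ^ p ^ (k + 1) = 1
      rw [pow_succ', pow_mul]; exact congrArg Subtype.val hk)⟩
  have hTU : (T : Subgroup G) ≤ U := fun g hg => ⟨hfix g hg, hq g hg⟩
  have hUT : U = (T : Subgroup G) := T.3 hU hTU
  refine ⟨e, he1, hfix, hq, fun g h1 h2 => hUT.le (show g ∈ U from ⟨h1, h2⟩), ?_⟩
  obtain ⟨g, hg, hg1⟩ := hT
  refine ⟨g, hg, fun w hw => ?_⟩
  let L : Subgroup W := (ψ g : W ≃* W).toMonoidHom.eqLocus (MonoidHom.id W)
  rcases hW.sub_cases he1 (L := L) (hfix g hg) with h | h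
  · rw [← h]; exact hw
  · exact absurd (MulEquiv.ext fun v => show ψ g v = v from (h ▸ Subgroup.mem_top v : v ∈ L)) hg1

variable {ψ : G →* MulAut W} {T : Sylow p G} {e : W}

theorem act_inv (ψ : G →* MulAut W) (x : G) (w : W) : ψ x (ψ x⁻¹ w) = w := by
  rw [map_inv]; exact (ψ x).apply_symm_apply w

theorem inv_act (ψ : G →* MulAut W) (x : G) (w : W) : ψ x⁻¹ (ψ x w) = w := by
  rw [map_inv]; exact (ψ x).symm_apply_apply w

theorem Line.mem_of_trivial (h : Line ψ T e) {g : G} (hg : ψ g = 1) : g ∈ T :=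
  h.mem g (by rw [hg]; rfl) fun w => by rw [hg]; simp

theorem Line.pow_eq_one (hW : Plane p W) (h : Line ψ T e) {t : G} (ht : t ∈ T) : ψ t ^ p = 1 :=
  MulEquiv.ext fun w => by
    obtain ⟨i, hi⟩ := Subgroup.mem_zpowers_iff.mp (h.quot t ht w)
    have hw : ψ t w = w * e ^ i := by rw [hi, mul_inv_cancel_left]
    have hiter : ∀ m : ℕ, (ψ t ^ m) w = w * (e ^ i) ^ m := by
      intro m
      induction m with
      | zero => simp
      | succ m ih =>
        rw [pow_succ', MulAut.mul_apply, ih, map_mul, map_pow, map_zpow, h.fixed t ht, hw, mul_assoc, ← pow_succ']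
    rw [hiter, hW.pow, mul_one]
    rfl

theorem Line.zpowers_eq (hW : Plane p W) (h : Line ψ T e) {g : G} (hg : ψ g e ∈ Subgroup.zpowers e) :
    (Subgroup.zpowers e).map (ψ g : W ≃* W).toMonoidHom = Subgroup.zpowers e := by
  haveI := hW.finite
  refine Subgroup.eq_of_le_of_card_ge ?_ ?_
  · rw [MonoidHom.map_zpowers, Subgroup.zpowers_le]; exact hg
  · exact (Nat.card_congr ((Subgroup.zpowers e).equivMapOfInjective _ (ψ g).injective).toEquiv).le

/-- Elements preserving the line normalize the Sylow subgroup. -/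
theorem Line.mem_normalizer (hW : Plane p W) (h : Line ψ T e) {g : G} (hg : ψ g e ∈ Subgroup.zpowers e) :
    g ∈ Subgroup.normalizer ((T : Subgroup G) : Set G) := by
  have hg' : ψ g⁻¹ e ∈ Subgroup.zpowers e := by
    obtain ⟨v, hv, hve⟩ := (h.zpowers_eq hW hg).ge (Subgroup.mem_zpowers e)
    rw [map_inv, show (ψ g)⁻¹ e = v from (MulEquiv.symm_apply_eq _).mpr hve.symm]
    exact hv
  have key : ∀ x : G, ψ x e ∈ Subgroup.zpowers e → ψ x⁻¹ e ∈ Subgroup.zpowers e →
      ∀ t ∈ T, x * t * x⁻¹ ∈ T := by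
    intro x hx hx' t ht
    refine h.mem _ ?_ fun w => ?_
    · obtain ⟨i, hi⟩ := Subgroup.mem_zpowers_iff.mp hx'
      rw [map_mul, map_mul, MulAut.mul_apply, MulAut.mul_apply, ← hi, map_zpow, h.fixed t ht, hi, act_inv]
    · obtain ⟨j, hj⟩ := Subgroup.mem_zpowers_iff.mp (h.quot t ht (ψ x⁻¹ w))
      have h2 : w⁻¹ * ψ (x * t * x⁻¹) w = ψ x (e ^ j) := by
        rw [hj, map_mul (ψ x), map_inv, map_mul, map_mul, MulAut.mul_apply, MulAut.mul_apply, act_inv]
      rw [h2, map_zpow]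
      exact Subgroup.zpow_mem _ hx j
  refine Subgroup.mem_normalizer_iff.mpr fun t => ⟨fun ht => key g hg hg' t ht, fun ht => ?_⟩
  have := key g⁻¹ hg' (by rwa [inv_inv]) _ ht
  simp [mul_assoc] at this
  exact this

theorem Line.irreducible (hW : Plane p W) (h : Line ψ T e) (hmove : ∃ γ : G, ψ γ e ∉ Subgroup.zpowers e)
    (L : Subgroup W) (hL : ∀ g : G, ∀ w ∈ L, ψ g w ∈ L) : L = ⊥ ∨ L = ⊤ := by
  by_cases hbot : L = ⊥
  · exact Or.inl hbot
  right
  obtain ⟨⟨w, hw⟩, hw1⟩ := (Subgroup.nontrivial_iff_ne_bot L).mpr hbot |>.exists_pair_ne |> fun ⟨a, b, hab⟩ =>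
    (show ∃ c : L, c ≠ 1 from by
      by_cases ha : a = 1
      · exact ⟨b, fun hb => hab (ha.trans hb.symm)⟩
      · exact ⟨a, ha⟩)
  have hw' : w ≠ 1 := fun h' => hw1 (Subtype.ext h')
  obtain ⟨γ, hγ⟩ := hmove
  have heL : e ∈ L := by
    by_cases hwe : w ∈ Subgroup.zpowers e
    · have hz : Subgroup.zpowers w = Subgroup.zpowers e := by
        haveI := hW.finite
        exact Subgroup.eq_of_le_of_card_ge (Subgroup.zpowers_le.mpr hwe)
          (by rw [hW.card_zpowers hw', hW.card_zpowers h.ne])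
      exact Subgroup.zpowers_le.mpr hw (hz.ge (Subgroup.mem_zpowers e))
    · obtain ⟨u, hu, hfix⟩ := h.moved
      have hm := h.quot u hu w
      have h1 : w⁻¹ * ψ u w ≠ 1 := fun h' => hwe (hfix w (inv_mul_eq_one.mp h').symm)
      have hz : Subgroup.zpowers (w⁻¹ * ψ u w) = Subgroup.zpowers e := by
        haveI := hW.finite
        exact Subgroup.eq_of_le_of_card_ge (Subgroup.zpowers_le.mpr hm)
          (by rw [hW.card_zpowers h1, hW.card_zpowers h.ne])
      exact Subgroup.zpowers_le.mpr (L.mul_mem (L.inv_mem hw) (hL u w hw)) (hz.ge (Subgroup.mem_zpowers e))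
  rcases hW.sub_cases h.ne heL with h' | h'
  · exact absurd (h' ▸ hL γ e heL) hγ
  · exact h'

/-- If the Sylow subgroup is not normal the line is moved. -/
theorem Line.exists_move (hW : Plane p W) (h : Line ψ T e) (hn : ¬ (T : Subgroup G).Normal) :
    ∃ γ : G, ψ γ e ∉ Subgroup.zpowers e := by
  by_contra hno
  push Not at hno
  exact hn (Subgroup.normalizer_eq_top_iff.mp (eq_top_iff.mpr fun g _ => h.mem_normalizer hW (hno g)))

/-- A normal `p`-subgroup acts trivially. -/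
theorem Line.trivial_of_normal (hW : Plane p W) (h : Line ψ T e) (hmove : ∃ γ : G, ψ γ e ∉ Subgroup.zpowers e)
    (I : Subgroup G) [hI : I.Normal] (hIT : I ≤ T) : ∀ g ∈ I, ψ g = 1 := by
  let L : Subgroup W :=
    { carrier := {w | ∀ g ∈ I, ψ g w = w}
      one_mem' := fun g _ => map_one _
      mul_mem' := fun {a b} ha hb g hg => by rw [map_mul, ha g hg, hb g hg]
      inv_mem' := fun {a} ha g hg => by rw [map_inv, ha g hg] }
  have hL : ∀ x : G, ∀ w ∈ L, ψ x w ∈ L := by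
    intro x w hw g hg
    have := hw (x⁻¹ * g * x) (by simpa using hI.conj_mem g hg x⁻¹)
    rw [map_mul, map_mul, MulAut.mul_apply, MulAut.mul_apply] at this
    have h2 := congrArg (ψ x) this
    rwa [act_inv] at h2
  rcases h.irreducible hW hmove L hL with h' | h'
  · exact absurd (Subgroup.mem_bot.mp (h' ▸ (fun g hg => h.fixed g (hIT hg) : e ∈ L))) h.ne
  · exact fun g hg => MulEquiv.ext fun w => (h' ▸ Subgroup.mem_top w : w ∈ L) g hg

/-- The diagonal elements. -/
theorem Line.exists_diag (hW : Plane p W) (h : Line ψ T e) (hmove : ∃ γ : G, ψ γ e ∉ Subgroup.zpowers e) :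
    ∃ f ∉ Subgroup.zpowers e, ∀ a b : ℕ, ((a * b : ℕ) : ZMod p) = 1 →
      ∃ β : G, β ∈ Subgroup.normalizer ((T : Subgroup G) : Set G) ∧ (orderOf β).Coprime p ∧
        ψ β e = e ^ (a : ℤ) ∧ ψ β f = f ^ (b : ℤ) := by
  haveI := hW.finite
  obtain ⟨γ, hγ⟩ := hmove
  refine ⟨ψ γ e, hγ, ?_⟩
  set f := ψ γ e with hf
  obtain ⟨u, hu, hufix⟩ := h.moved
  have huf : ψ u f ≠ f := fun h' => hγ (hufix f h')
  have hvf : ψ (γ * u * γ⁻¹) f = f := by
    rw [map_mul, map_mul, MulAut.mul_apply, MulAut.mul_apply, hf, inv_act, h.fixed u hu]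
  have hvq : e⁻¹ * ψ (γ * u * γ⁻¹) e ∈ Subgroup.zpowers f := by
    obtain ⟨i, hi⟩ := Subgroup.mem_zpowers_iff.mp (h.quot u hu (ψ γ⁻¹ e))
    refine Subgroup.mem_zpowers_iff.mpr ⟨i, ?_⟩
    rw [hf, ← map_zpow, hi, map_mul (ψ γ), map_inv (ψ γ), act_inv, map_mul ψ (γ * u), map_mul, MulAut.mul_apply,
      MulAut.mul_apply]
  have hve : ψ (γ * u * γ⁻¹) e ≠ e := by
    intro h'
    refine huf ?_
    have h1 : ψ (γ * u * γ⁻¹) = 1 := MulEquiv.ext fun w => by
      obtain ⟨i, j, rfl⟩ := hW.span h.ne hγ w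
      rw [map_mul (ψ _), map_zpow, map_zpow, h', hvf]
      rfl
    have h2 : ψ u = 1 := by
      rw [map_mul, map_mul, map_inv, mul_inv_eq_one] at h1
      exact mul_eq_left.mp h1
    rw [h2]; rfl
  obtain ⟨⟨U, U', rfl⟩, hU1, hU2⟩ := MetaClosed.exists_shear hW.pow hW.comm ψ.range ⟨ψ u, u, rfl⟩ e f
    (h.fixed u hu) (h.quot u hu f) huf
  obtain ⟨⟨V, V', rfl⟩, hV1, hV2⟩ := MetaClosed.exists_shear hW.pow hW.comm ψ.range
    ⟨ψ (γ * u * γ⁻¹), _, rfl⟩ f e hvf hvq hve
  change ψ U' e = e at hU1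
  change ψ U' f = f * e at hU2
  change ψ V' f = f at hV1
  change ψ V' e = e * f at hV2
  have hUn : ∀ m : ℕ, ψ (U' ^ m) e = e ∧ ψ (U' ^ m) f = f * e ^ (m : ℤ) := by
    intro m
    induction m with
    | zero => simp
    | succ m ih =>
      rw [pow_succ', map_mul, MulAut.mul_apply, MulAut.mul_apply, ih.1, ih.2]
      refine ⟨hU1, ?_⟩
      rw [map_mul (ψ U'), map_zpow, hU1, hU2, mul_assoc, ← zpow_one_add]
      push_cast; ring_nf
  have hVn : ∀ m : ℕ, ψ (V' ^ m) f = f ∧ ψ (V' ^ m) e = e * f ^ (m : ℤ) := by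
    intro m
    induction m with
    | zero => simp
    | succ m ih =>
      rw [pow_succ', map_mul, MulAut.mul_apply, MulAut.mul_apply, ih.1, ih.2]
      refine ⟨hV1, ?_⟩
      rw [map_mul (ψ V'), map_zpow, hV1, hV2, mul_assoc, ← zpow_one_add]
      push_cast; ring_nf
  have hanti : ∀ a b : ℕ, ((a * b : ℕ) : ZMod p) = 1 →
      ∃ D : G, ψ D e = f ^ (-(b : ℤ)) ∧ ψ D f = e ^ (a : ℤ) := by
    intro a b hab
    set m := b * (p - 1) with hm
    have hm' : (m : ZMod p) = -(b : ZMod p) := by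
      rw [hm, Nat.cast_mul, Nat.cast_sub hp.out.one_le]; simp
    have hab' : (a : ZMod p) * b = 1 := by exact_mod_cast hab
    have hfm : f ^ (m : ℤ) = f ^ (-(b : ℤ)) := zpow_congr (hW.pow f) (by push_cast; exact hm')
    refine ⟨U' ^ a * V' ^ m * U' ^ a, ?_, ?_⟩
    · rw [map_mul, map_mul, MulAut.mul_apply, MulAut.mul_apply, (hUn a).1, (hVn m).2, map_mul (ψ _), map_zpow,
        (hUn a).1, (hUn a).2, (show Commute f (e ^ (a : ℤ)) from hW.comm _ _).mul_zpow, ← hfm, ← zpow_mul,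
        hW.comm (f ^ _), ← mul_assoc, ← zpow_one_add,
        zpow_congr (hW.pow e) (show ((1 + (a : ℤ) * m : ℤ) : ZMod p) = ((0 : ℤ) : ZMod p) by
          push_cast; rw [hm']; linear_combination -hab'), zpow_zero, one_mul]
    · rw [map_mul, map_mul, MulAut.mul_apply, MulAut.mul_apply, (hUn a).2, map_mul (ψ _), map_zpow, (hVn m).1,
        (hVn m).2, (show Commute e (f ^ (m : ℤ)) from hW.comm _ _).mul_zpow, hW.comm f, mul_assoc,
        ← zpow_mul, ← zpow_add_one,
        zpow_congr (hW.pow f) (show (((m : ℤ) * a + 1 : ℤ) : ZMod p) = ((0 : ℤ) : ZMod p) by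
          push_cast; rw [hm']; linear_combination -hab'), zpow_zero, mul_one, map_zpow, (hUn a).1]
  intro a b hab
  obtain ⟨D₁, hD1e, hD1f⟩ := hanti a b hab
  obtain ⟨D₂, hD2e, hD2f⟩ := hanti (p - 1) (p - 1) (by
    rw [Nat.cast_mul, Nat.cast_sub hp.out.one_le]; simp)
  have hpm : ((((p - 1 : ℕ) : ℤ)) : ZMod p) = ((-1 : ℤ) : ZMod p) := by
    push_cast [Nat.cast_sub hp.out.one_le]; simp
  rw [zpow_congr (hW.pow f) (show ((-((p - 1 : ℕ) : ℤ) : ℤ) : ZMod p) = ((1 : ℤ) : ZMod p) by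
    rw [Int.cast_neg, hpm]; simp), zpow_one] at hD2e
  rw [zpow_congr (hW.pow e) hpm, zpow_neg_one] at hD2f
  set D := D₁ * D₂ with hD
  have he' : ψ D e = e ^ (a : ℤ) := by rw [hD, map_mul, MulAut.mul_apply, hD2e, hD1f]
  have hf' : ψ D f = f ^ (b : ℤ) := by
    rw [hD, map_mul, MulAut.mul_apply, hD2f, map_inv, hD1e, zpow_neg, inv_inv]
  have hiter : ∀ m : ℕ, ψ (D ^ m) e = e ^ ((a : ℤ) ^ m) ∧ ψ (D ^ m) f = f ^ ((b : ℤ) ^ m) := by
    intro m
    induction m with
    | zero => simp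
    | succ m ih =>
      rw [pow_succ', map_mul, MulAut.mul_apply, MulAut.mul_apply, ih.1, ih.2, map_zpow, map_zpow, he', hf',
        ← zpow_mul, ← zpow_mul, pow_succ', pow_succ']
      exact ⟨rfl, rfl⟩
  obtain ⟨k, hk⟩ := coprime_part (p := p) D
  refine ⟨D ^ p ^ k, h.mem_normalizer hW (by rw [(hiter _).1]; exact Subgroup.zpow_mem _ (Subgroup.mem_zpowers e) _),
    hk, ?_, ?_⟩
  · rw [(hiter _).1]; exact zpow_congr (hW.pow e) (by push_cast; exact ZMod.pow_card_pow _)
  · rw [(hiter _).2]; exact zpow_congr (hW.pow f) (by push_cast; exact ZMod.pow_card_pow _)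

end Cfsg.Agent.FG75.RankTwo
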