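import Mathlib
import Cfsg.Agent.Lib.PGroup.Basic
import Cfsg.Agent.Lib.PGroup.Commutator
import Cfsg.Agent.FG75.RankTwo.Linear

/-!
# Small groups of exponent `p` and rank two
-/

set_option autoImplicit false
set_option linter.all false

namespace Cfsg.Agent.FG75.RankTwo

open Cfsg.Agent
open scoped commutatorElement

variable {p : ℕ} [hp : Fact p.Prime]

/-- No three independent commuting elements of order `p`. -/
def NoThree (p : ℕ) (X : Type*) [Group X] : Prop :=
  ∀ a b c : X, a * b = b * a → a * c = c * a → b * c = c * b → a ^ p = 1 → b ^ p = 1 → c ^ p = 1 →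
    a ≠ 1 → b ∉ Subgroup.zpowers a → ∃ i j : ℤ, c = a ^ i * b ^ j

variable {X : Type*} [Group X]

theorem comm_zpow_zpow (hX : commutator X ≤ Subgroup.center X) (x y : X) (a b : ℤ) :
    ⁅x ^ a, y ^ b⁆ = ⁅x, y⁆ ^ (a * b) := by
  have hc : ∀ u v w : X, Commute ⁅u, v⁆ w := fun u v w =>
    (Subgroup.mem_center_iff.mp (hX (MetaClosed.cm u v)) w).symm
  have h2 : ∀ u v w : X, ⁅u, v * w⁆ = ⁅u, v⁆ * ⁅u, w⁆ := fun u v w => by
    rw [commutatorElement_mul_right_eq_mul_conj, mul_assoc (⁅u, v⁆) v, mul_assoc (⁅u, v⁆), ← (hc u w v).eq]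
    group
  have h1 : ∀ u v w : X, ⁅u * v, w⁆ = ⁅u, w⁆ * ⁅v, w⁆ := fun u v w => by
    have h := congrArg (·⁻¹) (h2 w u v)
    simp only [commutatorElement_inv, mul_inv_rev] at h
    rw [h]
    exact (hc v w _).eq
  let f : X →* X := MonoidHom.mk' (fun u => ⁅u, y ^ b⁆) fun u v => h1 u v _
  let g : X →* X := MonoidHom.mk' (fun v => ⁅x, v⁆) (h2 x)
  have e1 : ⁅x ^ a, y ^ b⁆ = ⁅x, y ^ b⁆ ^ a := map_zpow f x a
  have e2 : ⁅x, y ^ b⁆ = ⁅x, y⁆ ^ b := map_zpow g y b
  rw [e1, e2, ← zpow_mul, mul_comm]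

/-- Nonabelian case of the structure of small groups. -/
structure Heis (p : ℕ) (X : Type*) [Group X] : Prop where
  finite : Finite X
  pow : ∀ x : X, x ^ p = 1
  card_center : Nat.card (Subgroup.center X) = p
  comm_le : commutator X ≤ Subgroup.center X
  plane : Plane p (X ⧸ Subgroup.center X)
  nonab : ∃ x y : X, x * y ≠ y * x

theorem small_cases [Finite X] (hX : IsPGroup p X) (hpow : ∀ x : X, x ^ p = 1) (h3 : NoThree p X) :
    Nat.card X ≤ p ∨ Plane p X ∨ Heis p X := by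
  classical
  by_cases hcomm : ∀ x y : X, x * y = y * x
  · by_cases hbig : ∃ a b : X, a ≠ 1 ∧ b ∉ Subgroup.zpowers a
    · obtain ⟨a, b, ha, hb⟩ := hbig
      right; left
      refine ⟨inferInstance, ?_, hcomm, hpow⟩
      have hsurj : Function.Surjective fun q : Subgroup.zpowers a × Subgroup.zpowers b => (q.1 : X) * q.2 := by
        intro c
        obtain ⟨i, j, rfl⟩ := h3 a b c (hcomm _ _) (hcomm _ _) (hcomm _ _) (hpow a) (hpow b) (hpow c) ha hb
        exact ⟨(⟨_, Subgroup.zpow_mem _ (Subgroup.mem_zpowers a) i⟩,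
          ⟨_, Subgroup.zpow_mem _ (Subgroup.mem_zpowers b) j⟩), rfl⟩
      have hle := Nat.card_le_card_of_surjective _ hsurj
      have hb1 : b ≠ 1 := fun h => hb (h ▸ Subgroup.one_mem _)
      rw [Nat.card_prod, Nat.card_zpowers, Nat.card_zpowers, orderOf_eq_prime (hpow a) ha,
        orderOf_eq_prime (hpow b) hb1, ← sq] at hle
      obtain ⟨n, hn⟩ := IsPGroup.iff_card.mp hX
      have hlt : p < Nat.card X := by
        refine lt_of_le_of_ne ?_ fun h => hb ?_
        · rw [← orderOf_eq_prime (hpow a) ha]; exact Nat.le_of_dvd Nat.card_pos (orderOf_dvd_natCard a)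
        · have htop : Subgroup.zpowers a = ⊤ :=
            Subgroup.eq_top_of_card_eq _ (by rw [Nat.card_zpowers, orderOf_eq_prime (hpow a) ha, h])
          rw [htop]; exact Subgroup.mem_top b
      rw [hn] at hle hlt ⊢
      have h1 := (Nat.pow_le_pow_iff_right hp.out.one_lt).mp hle
      have h2 : 1 < n := (Nat.pow_lt_pow_iff_right hp.out.one_lt).mp (by rwa [pow_one])
      rw [show n = 2 by omega]
    · left
      push Not at hbig
      by_cases h1 : ∃ a : X, a ≠ 1
      · obtain ⟨a, ha⟩ := h1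
        have htop : Subgroup.zpowers a = ⊤ := eq_top_iff.mpr fun b _ => hbig a b ha
        rw [← Subgroup.card_top (G := X), ← htop, Nat.card_zpowers, orderOf_eq_prime (hpow a) ha]
      · push Not at h1
        haveI : Subsingleton X := ⟨fun a b => (h1 a).trans (h1 b).symm⟩
        rw [Nat.card_unique]
        exact hp.out.one_lt.le
  right; right
  push Not at hcomm
  obtain ⟨u, v, huv⟩ := hcomm
  haveI : Nontrivial X := ⟨⟨u, v, fun h => huv (by rw [h])⟩⟩
  haveI := hX.center_nontrivial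
  obtain ⟨⟨z, hz⟩, hz1⟩ := exists_ne (1 : Subgroup.center X)
  have hz' : z ≠ 1 := fun h => hz1 (Subtype.ext h)
  have hzc : ∀ w, z * w = w * z := fun w => (Subgroup.mem_center_iff.mp hz w).symm
  have hgen : ∀ x, x ∉ Subgroup.center X → ∀ c, x * c = c * x → ∃ i j : ℤ, c = z ^ i * x ^ j := by
    intro x hx c hxc
    refine h3 z x c (hzc x) (hzc c) hxc (hpow z) (hpow x) (hpow c) hz' fun h => hx ?_
    exact (Subgroup.zpowers_le.mpr hz) h
  have hcen : Subgroup.center X = Subgroup.zpowers z := by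
    refine le_antisymm (fun w hw => ?_) (Subgroup.zpowers_le.mpr hz)
    obtain ⟨x, hx⟩ : ∃ x, x ∉ Subgroup.center X := ⟨u, fun h => huv (Subgroup.mem_center_iff.mp h v).symm⟩
    obtain ⟨i, j, rfl⟩ := hgen x hx w (Subgroup.mem_center_iff.mp hw x)
    by_cases hj : (p : ℤ) ∣ j
    · obtain ⟨m, rfl⟩ := hj
      rw [zpow_mul x, zpow_natCast, hpow, one_zpow, mul_one]
      exact Subgroup.zpow_mem _ (Subgroup.mem_zpowers z) i
    · exfalso
      apply hx
      have hxj : x ^ j ∈ Subgroup.center X := by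
        have := Subgroup.mul_mem _ (Subgroup.inv_mem _ (Subgroup.zpow_mem _ hz i)) hw
        rwa [inv_mul_cancel_left] at this
      obtain ⟨s, t, hst⟩ := (Nat.prime_iff_prime_int.mp hp.out).coprime_iff_not_dvd.mpr hj
      have : x = (x ^ j) ^ t := by
        conv_lhs => rw [← zpow_one x, ← hst, zpow_add, mul_comm s, zpow_mul, zpow_natCast, hpow, one_zpow, one_mul,
          mul_comm t, zpow_mul]
      rw [this]
      exact Subgroup.zpow_mem _ hxj t
  have hcardc : Nat.card (Subgroup.center X) = p := by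
    rw [hcen, Nat.card_zpowers, orderOf_eq_prime (hpow z) hz']
  set Q := X ⧸ Subgroup.center X
  have hQp : IsPGroup p Q := hX.to_quotient _
  haveI : Nontrivial Q := by
    refine ⟨⟨QuotientGroup.mk u, 1, fun h => huv ?_⟩⟩
    exact (Subgroup.mem_center_iff.mp ((QuotientGroup.eq_one_iff u).mp h) v).symm
  haveI := hQp.center_nontrivial
  obtain ⟨⟨q, hq⟩, hq1⟩ := exists_ne (1 : Subgroup.center Q)
  obtain ⟨x, rfl⟩ := QuotientGroup.mk_surjective q
  have hx : x ∉ Subgroup.center X := fun h => hq1 (Subtype.ext ((QuotientGroup.eq_one_iff x).mpr h))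
  have hxc : ∀ b, ⁅b, x⁆ ∈ Subgroup.center X := fun b => by
    have h1 : ⁅(QuotientGroup.mk b : Q), QuotientGroup.mk x⁆ = 1 :=
      commutatorElement_eq_one_iff_mul_comm.mpr (Subgroup.mem_center_iff.mp hq _)
    rw [← QuotientGroup.eq_one_iff]
    exact (map_commutatorElement (QuotientGroup.mk' (Subgroup.center X)) b x).trans h1
  let h : X →* Subgroup.center X := MonoidHom.mk' (fun b => ⟨⁅b, x⁆, hxc b⟩) fun a b => Subtype.ext (by
    show ⁅a * b, x⁆ = ⁅a, x⁆ * ⁅b, x⁆
    rw [commutatorElement_mul_left_eq_conj_mul, ← (Subgroup.mem_center_iff.mp (hxc b) a).symm, mul_inv_cancel_right]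
    exact Subgroup.mem_center_iff.mp (hxc a) _ |>.symm.symm)
  have hker : Nat.card h.ker ≤ p ^ 2 := by
    have hsub : ∀ b ∈ h.ker, ∃ i j : ℤ, b = z ^ i * x ^ j := fun b hb =>
      hgen x hx b (commutatorElement_eq_one_iff_mul_comm.mp (congrArg Subtype.val hb)).symm
    let φ : h.ker → Subgroup.zpowers z × Subgroup.zpowers x := fun b =>
      (⟨z ^ (hsub b b.2).choose, Subgroup.zpow_mem _ (Subgroup.mem_zpowers z) _⟩,
       ⟨x ^ (hsub b b.2).choose_spec.choose, Subgroup.zpow_mem _ (Subgroup.mem_zpowers x) _⟩)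
    have hinj : Function.Injective φ := fun a b hab => by
      apply Subtype.ext
      rw [(hsub a a.2).choose_spec.choose_spec, (hsub b b.2).choose_spec.choose_spec]
      have h1 := congrArg (fun q => ((q.1 : X) * q.2)) hab
      exact h1
    have hx1 : x ≠ 1 := fun h' => hx (h' ▸ one_mem _)
    refine (Nat.card_le_card_of_injective φ hinj).trans ?_
    rw [Nat.card_prod, Nat.card_zpowers, Nat.card_zpowers, orderOf_eq_prime (hpow z) hz',
      orderOf_eq_prime (hpow x) hx1, sq]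
  have hX3 : Nat.card X ≤ p ^ 3 := by
    have h1 := Subgroup.card_mul_index h.ker
    rw [Subgroup.index_ker] at h1
    have h2 : Nat.card h.range ≤ p := hcardc ▸ Subgroup.card_le_card_group _
    calc Nat.card X = Nat.card h.ker * Nat.card h.range := h1.symm
      _ ≤ p ^ 2 * p := Nat.mul_le_mul hker h2
      _ = p ^ 3 := by ring
  have hQcard : Nat.card Q = p ^ 2 := by
    obtain ⟨n, hn⟩ := IsPGroup.iff_card.mp hQp
    have h1 := Subgroup.card_eq_card_quotient_mul_card_subgroup (Subgroup.center X)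
    rw [show Nat.card (X ⧸ Subgroup.center X) = p ^ n from hn, hcardc, ← pow_succ] at h1
    rw [h1] at hX3
    have h2 := (Nat.pow_le_pow_iff_right hp.out.one_lt).mp hX3
    have h3' : ¬ IsCyclic Q := fun hc => huv
      ((commutative_of_cyclic_center_quotient (QuotientGroup.mk' (Subgroup.center X)) (by simp)) u v)
    rw [hn]
    rcases (show n = 0 ∨ n = 1 ∨ n = 2 by omega) with rfl | rfl | rfl
    · rw [pow_zero] at hn
      exact absurd (Nat.card_eq_one_iff_unique.mp hn).1 (not_subsingleton Q)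
    · exact absurd (isCyclic_of_prime_card (p := p) (by rw [hn, pow_one])) h3'
    · rfl
  haveI hQc := IsPGroup.isMulCommutative_of_card_eq_prime_sq (p := p) (G := Q) hQcard
  refine ⟨inferInstance, hpow, hcardc, ?_, ⟨inferInstance, hQcard, fun a b => mul_comm' a b, fun a => ?_⟩, u, v, huv⟩
  · exact Subgroup.Normal.quotient_commutative_iff_commutator_le.mp hQc
  · obtain ⟨b, rfl⟩ := QuotientGroup.mk_surjective a
    show QuotientGroup.mk' (Subgroup.center X) b ^ p = 1
    rw [← map_pow, hpow, map_one]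

theorem Heis.center_eq (h : Heis p X) {x y : X} (hxy : x * y ≠ y * x) :
    Subgroup.center X = Subgroup.zpowers ⁅x, y⁆ := by
  haveI := h.finite
  refine (Subgroup.eq_of_le_of_card_ge (Subgroup.zpowers_le.mpr (h.comm_le (MetaClosed.cm x y))) ?_).symm
  rw [h.card_center, Nat.card_zpowers, orderOf_eq_prime (h.pow _) fun h1 =>
    hxy (commutatorElement_eq_one_iff_mul_comm.mp h1)]

/-- Lifts of a basis of the central quotient do not commute and generate. -/
theorem Heis.basis (h : Heis p X) {x y : X}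
    (hy : (QuotientGroup.mk y : X ⧸ Subgroup.center X) ≠ 1)
    (hx : (QuotientGroup.mk x : X ⧸ Subgroup.center X) ∉ Subgroup.zpowers (QuotientGroup.mk y : X ⧸ Subgroup.center X)) :
    x * y ≠ y * x ∧ ∀ c : X, ∃ i j k : ℤ, c = x ^ i * y ^ j * ⁅x, y⁆ ^ k := by
  have hspan : ∀ c : X, ∃ i j : ℤ, ∃ ζ ∈ Subgroup.center X, c = x ^ i * y ^ j * ζ := by
    intro c
    obtain ⟨j, i, hji⟩ := h.plane.span hy hx (QuotientGroup.mk c)
    rw [h.plane.comm] at hji
    refine ⟨i, j, (x ^ i * y ^ j)⁻¹ * c, ?_, (mul_inv_cancel_left _ _).symm⟩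
    exact QuotientGroup.eq.mp hji.symm
  have hne : x * y ≠ y * x := by
    intro hxy
    obtain ⟨u, v, huv⟩ := h.nonab
    obtain ⟨i, j, ζ, hζ, rfl⟩ := hspan u
    obtain ⟨i', j', ζ', hζ', rfl⟩ := hspan v
    apply huv
    have hc : ∀ {a : X}, a ∈ Subgroup.center X → ∀ w, Commute a w := fun ha w =>
      (Subgroup.mem_center_iff.mp ha w).symm
    have hxy' : Commute x y := hxy
    have h1 : ∀ a b : ℤ, Commute (x ^ i * y ^ j) (x ^ a * y ^ b) := fun a b =>
      ((((Commute.refl x).zpow_zpow i a).mul_right (hxy'.zpow_zpow i b)).mul_left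
        ((hxy'.symm.zpow_zpow j a).mul_right ((Commute.refl y).zpow_zpow j b)))
    exact (((h1 i' j').mul_right (hc hζ' _).symm).mul_left (hc hζ _)).eq
  refine ⟨hne, fun c => ?_⟩
  obtain ⟨i, j, ζ, hζ, rfl⟩ := hspan c
  rw [h.center_eq hne] at hζ
  obtain ⟨k, rfl⟩ := Subgroup.mem_zpowers_iff.mp hζ
  exact ⟨i, j, k, rfl⟩

/-- An automorphism trivial on the central quotient. -/
theorem Heis.quot_trivial (h : Heis p X) (α : MulAut X) (hα : quotCenter X α = 1) :
    α ^ p = 1 ∧ ∀ z ∈ Subgroup.center X, α z = z := by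
  have hm : ∀ x, x⁻¹ * α x ∈ Subgroup.center X := fun x => by
    refine QuotientGroup.eq.mp ?_
    have := MulEquiv.congr_fun hα (QuotientGroup.mk x)
    rw [quotCenter_mk] at this
    exact this.symm
  have hfix : ∀ z ∈ Subgroup.center X, α z = z := by
    obtain ⟨u, v, huv⟩ := h.nonab
    intro z hz
    rw [h.center_eq huv] at hz
    obtain ⟨k, rfl⟩ := Subgroup.mem_zpowers_iff.mp hz
    have hu : α u = u * (u⁻¹ * α u) := (mul_inv_cancel_left _ _).symm
    have hv : α v = v * (v⁻¹ * α v) := (mul_inv_cancel_left _ _).symm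
    have hc : ∀ (a : X) {ζ : X}, ζ ∈ Subgroup.center X → ⁅a, ζ⁆ = 1 ∧ ⁅ζ, a⁆ = 1 := fun a ζ hζ =>
      ⟨commutatorElement_eq_one_iff_mul_comm.mpr (Subgroup.mem_center_iff.mp hζ a),
        commutatorElement_eq_one_iff_mul_comm.mpr (Subgroup.mem_center_iff.mp hζ a).symm⟩
    rw [map_zpow, map_commutatorElement, hu, hv]
    congr 1
    rw [commutatorElement_mul_left_eq_conj_mul, (hc _ (hm u)).2, commutatorElement_mul_right_eq_mul_conj,
      (hc u (hm v)).1]
    group
  refine ⟨MulEquiv.ext fun x => ?_, hfix⟩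
  have hiter : ∀ n : ℕ, (α ^ n) x = x * (x⁻¹ * α x) ^ n := by
    intro n
    induction n with
    | zero => simp
    | succ n ih =>
      rw [pow_succ', MulAut.mul_apply, ih, map_mul, map_pow, hfix _ (hm x)]
      calc α x * (x⁻¹ * α x) ^ n = x * (x⁻¹ * α x) * (x⁻¹ * α x) ^ n := by rw [mul_inv_cancel_left]
        _ = _ := by rw [mul_assoc, ← pow_succ']
  rw [hiter, h.pow, mul_one]
  rfl

theorem Heis.comm_eq (h : Heis p X) {a a' b b' : X}
    (ha : (QuotientGroup.mk a : X ⧸ Subgroup.center X) = QuotientGroup.mk a')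
    (hb : (QuotientGroup.mk b : X ⧸ Subgroup.center X) = QuotientGroup.mk b') : ⁅a, b⁆ = ⁅a', b'⁆ := by
  obtain ⟨ζ, hζ, rfl⟩ : ∃ ζ ∈ Subgroup.center X, a' = a * ζ := ⟨_, QuotientGroup.eq.mp ha, (mul_inv_cancel_left _ _).symm⟩
  obtain ⟨η, hη, rfl⟩ : ∃ η ∈ Subgroup.center X, b' = b * η := ⟨_, QuotientGroup.eq.mp hb, (mul_inv_cancel_left _ _).symm⟩
  have hc : ∀ (u : X) {ζ : X}, ζ ∈ Subgroup.center X → ⁅u, ζ⁆ = 1 ∧ ⁅ζ, u⁆ = 1 := fun u ζ hζ =>
    ⟨commutatorElement_eq_one_iff_mul_comm.mpr (Subgroup.mem_center_iff.mp hζ u),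
      commutatorElement_eq_one_iff_mul_comm.mpr (Subgroup.mem_center_iff.mp hζ u).symm⟩
  rw [commutatorElement_mul_left_eq_conj_mul, (hc _ hζ).2, commutatorElement_mul_right_eq_mul_conj, (hc a hη).1]
  group

/-- The effect on the central commutator of an automorphism with triangular matrix. -/
theorem Heis.map_comm (h : Heis p X) (α : MulAut X) {x y : X} {b d j : ℤ}
    (hy : quotCenter X α (QuotientGroup.mk y) = (QuotientGroup.mk y : X ⧸ Subgroup.center X) ^ d)
    (hx : quotCenter X α (QuotientGroup.mk x) =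
      (QuotientGroup.mk x : X ⧸ Subgroup.center X) ^ b * (QuotientGroup.mk y : X ⧸ Subgroup.center X) ^ j) :
    α ⁅x, y⁆ = ⁅x, y⁆ ^ (b * d) := by
  rw [quotCenter_mk] at hx hy
  rw [map_commutatorElement, h.comm_eq (a' := x ^ b * y ^ j) (b' := y ^ d) (by rw [hx]; rfl) (by rw [hy]; rfl),
    commutatorElement_mul_left_eq_conj_mul,
    commutatorElement_eq_one_iff_mul_comm.mpr ((Commute.refl y).zpow_zpow j d).eq, mul_one, mul_inv_cancel,
    one_mul, comm_zpow_zpow h.comm_le]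

theorem Heis.conj_zpow_eq (h : Heis p X) (x y : X) (m : ℤ) : x ^ m * y * (x ^ m)⁻¹ = ⁅x, y⁆ ^ m * y := by
  have := comm_zpow_zpow h.comm_le x y m 1
  rw [zpow_one, mul_one] at this
  rw [← this, commutatorElement_def, inv_mul_cancel_right]

theorem Heis.dvd_left (h : Heis p X) {x y : X} (hxy : x * y ≠ y * x) {i j k : ℤ}
    (hc : Commute (x ^ i * y ^ j * ⁅x, y⁆ ^ k) y) : (p : ℤ) ∣ i := by
  refine dvd_of_zpow_eq_one (h.pow _) (fun h1 => hxy (commutatorElement_eq_one_iff_mul_comm.mp h1)) (i := i) ?_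
  have h2 : Commute (y ^ j * ⁅x, y⁆ ^ k) y :=
    ((Commute.refl y).zpow_left j).mul_left
      ((show Commute ⁅x, y⁆ y from (Subgroup.mem_center_iff.mp (h.comm_le (MetaClosed.cm x y)) y).symm).zpow_left k)
  have h3 := hc.mul_left h2.inv_left
  rw [mul_assoc (x ^ i), mul_inv_cancel_right] at h3
  have h4 := comm_zpow_zpow h.comm_le x y i 1
  rw [zpow_one, mul_one, commutatorElement_eq_one_iff_mul_comm.mpr h3.eq] at h4
  exact h4.symm

theorem Heis.dvd_right (h : Heis p X) {x y : X} (hxy : x * y ≠ y * x) {i j k : ℤ}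
    (hc : Commute (x ^ i * y ^ j * ⁅x, y⁆ ^ k) x) : (p : ℤ) ∣ j := by
  refine dvd_of_zpow_eq_one (h.pow _) (fun h1 => hxy (commutatorElement_eq_one_iff_mul_comm.mp h1)) (i := j) ?_
  have h2 : Commute (⁅x, y⁆ ^ k) x :=
    (show Commute ⁅x, y⁆ x from (Subgroup.mem_center_iff.mp (h.comm_le (MetaClosed.cm x y)) x).symm).zpow_left k
  have h3 := hc.mul_left h2.inv_left
  rw [mul_inv_cancel_right] at h3
  have h5 := (((Commute.refl x).zpow_left i).inv_left).mul_left h3
  rw [inv_mul_cancel_left] at h5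
  have h4 := comm_zpow_zpow h.comm_le x y 1 j
  rw [zpow_one, one_mul, commutatorElement_eq_one_iff_mul_comm.mpr h5.symm.eq] at h4
  exact h4.symm

/-- Automorphisms trivial on the central quotient are inner. -/
theorem Heis.exists_inner (h : Heis p X) {x y : X} (hxy : x * y ≠ y * x)
    (hgen : ∀ c : X, ∃ i j k : ℤ, c = x ^ i * y ^ j * ⁅x, y⁆ ^ k) (α : MulAut X) (hα : quotCenter X α = 1) :
    ∃ c : X, ∀ w, α w = c * w * c⁻¹ := by
  have hm : ∀ w, ∃ u : ℤ, α w = w * ⁅x, y⁆ ^ u := fun w => by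
    have h1 : (QuotientGroup.mk w : X ⧸ Subgroup.center X) = QuotientGroup.mk (α w) := by
      rw [← quotCenter_mk, hα]; rfl
    have h2 := QuotientGroup.eq.mp h1
    rw [h.center_eq hxy] at h2
    obtain ⟨u, hu⟩ := Subgroup.mem_zpowers_iff.mp h2
    exact ⟨u, by rw [hu, mul_inv_cancel_left]⟩
  obtain ⟨u, hu⟩ := hm x
  obtain ⟨v, hv⟩ := hm y
  have hz : ∀ w, Commute ⁅x, y⁆ w := fun w => (Subgroup.mem_center_iff.mp (h.comm_le (MetaClosed.cm x y)) w).symm
  refine ⟨x ^ v * y ^ (-u), fun w => ?_⟩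
  have hx : α x = x ^ v * y ^ (-u) * x * (x ^ v * y ^ (-u))⁻¹ := by
    have h1 : ⁅y ^ (-u), x⁆ = ⁅x, y⁆ ^ u := by
      have h2 := comm_zpow_zpow h.comm_le y x (-u) 1
      rw [zpow_one, mul_one, ← commutatorElement_inv x y, inv_zpow', neg_neg] at h2
      exact h2
    rw [commutatorElement_def] at h1
    calc α x = x * ⁅x, y⁆ ^ u := hu
      _ = x ^ v * (x * ⁅x, y⁆ ^ u) * (x ^ v)⁻¹ := by
        rw [(((Commute.refl x).zpow_left v).mul_right (((hz (x ^ v)).zpow_left u).symm)).eq, mul_inv_cancel_right]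
      _ = x ^ v * (⁅x, y⁆ ^ u * x) * (x ^ v)⁻¹ := by rw [((hz x).zpow_left u).eq]
      _ = _ := by rw [← h1]; group
  have hy : α y = x ^ v * y ^ (-u) * y * (x ^ v * y ^ (-u))⁻¹ := by
    rw [hv, show x ^ v * y ^ (-u) * y * (x ^ v * y ^ (-u))⁻¹ = x ^ v * y * (x ^ v)⁻¹ by group,
      h.conj_zpow_eq, ((hz y).zpow_left v).eq]
  have hzz : α ⁅x, y⁆ = ⁅x, y⁆ := (h.quot_trivial α hα).2 _ (h.comm_le (MetaClosed.cm x y))
  obtain ⟨i, j, k, rfl⟩ := hgen w
  rw [map_mul, map_mul, map_zpow, map_zpow, map_zpow, hx, hy, hzz, conj_zpow, conj_zpow]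
  conv_lhs => rw [show ⁅x, y⁆ ^ k = x ^ v * y ^ (-u) * ⁅x, y⁆ ^ k * (x ^ v * y ^ (-u))⁻¹ by
    rw [← ((hz _).zpow_left k).eq, mul_inv_cancel_right]]
  group

end Cfsg.Agent.FG75.RankTwo
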