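import Mathlib
import Cfsg.Agent.Lib.Fusion.Normal
import Cfsg.Agent.Fus93.Small
import Cfsg.Agent.FG75.RankTwo.Groups

/-!
# Local data at an essential subgroup
-/

set_option autoImplicit false
set_option linter.all false

namespace Cfsg.Agent.FG75.RankTwo

open Cfsg
open Cfsg.Agent
open Cfsg.Agent.Fusion
open Cfsg.FusionSystem (normalizerIn centralizerIn)

variable {p : ℕ} [hp : Fact p.Prime]
variable {Ω : Type*} [Group Ω] {S : Subgroup Ω} {F : FusionSystem S}

/-- The rank hypothesis, restated. -/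
theorem noThree (hS : IsPGroup p S) [Finite S]
    (hr : ∀ E : Subgroup Ω, E ≤ S → Cfsg.IsElementaryAbelian p E → Nat.card E ≤ p ^ 2)
    {a b c : Ω} (haS : a ∈ S) (hbS : b ∈ S) (hcS : c ∈ S)
    (hab : a * b = b * a) (hac : a * c = c * a) (hbc : b * c = c * b)
    (ha : a ^ p = 1) (hb : b ^ p = 1) (hc : c ^ p = 1) (ha1 : a ≠ 1) (hba : b ∉ Subgroup.zpowers a) :
    ∃ i j : ℤ, c = a ^ i * b ^ j := by
  set A := Subgroup.closure ({a, b, c} : Set Ω) with hA
  have hAS : A ≤ S := (Subgroup.closure_le S).mpr (by simp [Set.insert_subset_iff, haS, hbS, hcS])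
  haveI : Finite A := finite_of_le hAS
  have hAc : IsMulCommutative A := Subgroup.isMulCommutative_closure (by
    rintro u (rfl | rfl | rfl) v (rfl | rfl | rfl) <;> first | rfl | assumption | exact hab.symm | exact hac.symm | exact hbc.symm)
  have hAe : ∀ u ∈ A, u ^ p = 1 := by
    intro u hu
    induction hu using Subgroup.closure_induction with
    | mem x hx => rcases hx with rfl | rfl | rfl <;> assumption
    | one => exact one_pow _
    | mul u v hu' hv' h1 h2 =>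
      haveI := hAc
      have hcm : Commute u v := congrArg Subtype.val (mul_comm' (⟨u, hu'⟩ : A) ⟨v, hv'⟩)
      rw [hcm.mul_pow, h1, h2, one_mul]
    | inv u _ h1 => rw [inv_pow, h1, inv_one]
  have hcard := hr A hAS ⟨hAc, hAe⟩
  let D : Subgroup Ω :=
    { carrier := {u | ∃ i j : ℤ, u = a ^ i * b ^ j}
      one_mem' := ⟨0, 0, by simp⟩
      mul_mem' := fun {u v} hu hv => by
        obtain ⟨i, j, rfl⟩ := hu
        obtain ⟨i', j', rfl⟩ := hv
        refine ⟨i + i', j + j', ?_⟩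
        rw [zpow_add, zpow_add, mul_assoc (a ^ i) (b ^ j), ← mul_assoc (b ^ j) (a ^ i'),
          ← ((show Commute a b from hab).zpow_zpow i' j).eq]
        group
      inv_mem' := fun {u} hu => by
        obtain ⟨i, j, rfl⟩ := hu
        refine ⟨-i, -j, ?_⟩
        rw [mul_inv_rev, zpow_neg, zpow_neg]
        exact (((show Commute a b from hab).zpow_zpow i j).symm.inv_inv).eq }
  have haD : a ∈ D := ⟨1, 0, by simp⟩
  have hbD : b ∈ D := ⟨0, 1, by simp⟩
  have hDA : D ≤ A := by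
    rintro u ⟨i, j, rfl⟩
    exact A.mul_mem (A.zpow_mem (Subgroup.subset_closure (by simp)) i) (A.zpow_mem (Subgroup.subset_closure (by simp)) j)
  haveI : Finite D := finite_of_le hDA
  have hDp : IsPGroup p D := hS.to_le (hDA.trans hAS)
  obtain ⟨n, hn⟩ := IsPGroup.iff_card.mp hDp
  have hlt : p < Nat.card D := by
    refine lt_of_le_of_ne ?_ fun h => hba ?_
    · rw [← orderOf_eq_prime ha ha1, ← Nat.card_zpowers]
      exact Subgroup.card_le_of_le (Subgroup.zpowers_le.mpr haD)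
    · rw [show Subgroup.zpowers a = D from Subgroup.eq_of_le_of_card_ge (Subgroup.zpowers_le.mpr haD)
        (by rw [Nat.card_zpowers, orderOf_eq_prime ha ha1, h])]
      exact hbD
  have h2 : p ^ 2 ≤ Nat.card D := by
    rw [hn] at hlt ⊢
    exact Nat.pow_le_pow_right hp.out.pos ((Nat.pow_lt_pow_iff_right hp.out.one_lt).mp (by rwa [pow_one]))
  exact (Subgroup.eq_of_le_of_card_ge hDA (hcard.trans h2)).ge (Subgroup.subset_closure (by simp) : c ∈ A)

theorem noThree_type (hS : IsPGroup p S) [Finite S]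
    (hr : ∀ E : Subgroup Ω, E ≤ S → Cfsg.IsElementaryAbelian p E → Nat.card E ≤ p ^ 2)
    {X : Type*} [Group X] (ι : X →* Ω) (hι : Function.Injective ι) (hιS : ∀ x, ι x ∈ S) : NoThree p X := by
  intro a b c hab hac hbc ha hb hc ha1 hba
  obtain ⟨i, j, h⟩ := noThree hS hr (hιS a) (hιS b) (hιS c) (by rw [← map_mul, hab, map_mul])
    (by rw [← map_mul, hac, map_mul]) (by rw [← map_mul, hbc, map_mul]) (by rw [← map_pow, ha, map_one])
    (by rw [← map_pow, hb, map_one]) (by rw [← map_pow, hc, map_one])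
    (fun h => ha1 (hι (h.trans (map_one ι).symm))) (fun h => hba (by
      obtain ⟨k, hk⟩ := Subgroup.mem_zpowers_iff.mp h
      exact Subgroup.mem_zpowers_iff.mpr ⟨k, hι (by rw [map_zpow, hk])⟩))
  exact ⟨i, j, hι (by rw [h, map_mul, map_zpow, map_zpow])⟩

/-- Conjugation by a normalizing element, as an automorphism in the system. -/
def cg {E : Subgroup Ω} (hE : E ≤ S) (r : ↥(normalizerIn S E)) : ↥(F.autGroup E) :=
  ⟨conjAutHom S E r, autInducedBy_le_autGroup hE (range_conjAutHom S E ▸ ⟨r, rfl⟩)⟩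

@[simp] theorem cg_apply {E : Subgroup Ω} (hE : E ≤ S) (r : ↥(normalizerIn S E)) (x : E) :
    (((cg (F := F) hE r : ↥(F.autGroup E)) : MulAut E) x : Ω) = r * x * (r : Ω)⁻¹ := rfl

theorem cg_mul {E : Subgroup Ω} (hE : E ≤ S) (r s : ↥(normalizerIn S E)) :
    cg (F := F) hE (r * s) = cg hE r * cg hE s := Subtype.ext (map_mul (conjAutHom S E) r s)

theorem cg_pow {E : Subgroup Ω} (hE : E ≤ S) (r : ↥(normalizerIn S E)) (n : ℕ) :
    cg (F := F) hE (r ^ n) = cg hE r ^ n := Subtype.ext (map_pow (conjAutHom S E) r n)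

theorem cg_zpow {E : Subgroup Ω} (hE : E ≤ S) (r : ↥(normalizerIn S E)) (n : ℤ) :
    cg (F := F) hE (r ^ n) = cg hE r ^ n := Subtype.ext (map_zpow (conjAutHom S E) r n)

/-- The local data at a fully normalized centric radical subgroup properly inside `S`. -/
structure Data (p : ℕ) (F : FusionSystem S) (E : Subgroup Ω) (T : Sylow p ↥(F.autGroup E)) : Prop where
  le : E ≤ S
  cent : centralizerIn S E ≤ E
  finite : Finite ↥(F.autGroup E)
  mem_T : ∀ g, g ∈ T ↔ (g : MulAut E) ∈ autInducedBy S E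
  inn_T : (Cfsg.Inn E).subgroupOf (F.autGroup E) ≤ T
  inn_normal : ((Cfsg.Inn E).subgroupOf (F.autGroup E)).Normal
  core : ∀ N : Subgroup ↥(F.autGroup E), N.Normal → IsPGroup p N → N ≤ (Cfsg.Inn E).subgroupOf (F.autGroup E)
  not_le : ¬ (T : Subgroup ↥(F.autGroup E)) ≤ (Cfsg.Inn E).subgroupOf (F.autGroup E)

theorem Data.cg_mem {E : Subgroup Ω} {T : Sylow p ↥(F.autGroup E)} (h : Data p F E T) (hE : E ≤ S)
    (r : ↥(normalizerIn S E)) : cg hE r ∈ T :=
  (h.mem_T _).mpr (range_conjAutHom S E ▸ ⟨r, rfl⟩)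

theorem Data.exists_cg {E : Subgroup Ω} {T : Sylow p ↥(F.autGroup E)} (h : Data p F E T)
    {g : ↥(F.autGroup E)} (hg : g ∈ T) : ∃ r : ↥(normalizerIn S E), cg h.le r = g := by
  have := (h.mem_T _).mp hg
  rw [← range_conjAutHom] at this
  obtain ⟨r, hr⟩ := this
  exact ⟨r, Subtype.ext hr⟩

theorem Data.mem_of_inn {E : Subgroup Ω} {T : Sylow p ↥(F.autGroup E)} (h : Data p F E T)
    (r : ↥(normalizerIn S E)) (hr : cg h.le r ∈ (Cfsg.Inn E).subgroupOf (F.autGroup E)) : (r : Ω) ∈ E := by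
  obtain ⟨a, ha, hax⟩ := mem_inn.mp (Subgroup.mem_subgroupOf.mp hr)
  have hcent : a⁻¹ * (r : Ω) ∈ centralizerIn S E := by
    refine ⟨S.mul_mem (S.inv_mem (h.le ha)) r.2.1, Subgroup.mem_centralizer_iff.mpr fun x hx => ?_⟩
    have h1 : (r : Ω) * x * (r : Ω)⁻¹ = a * x * a⁻¹ := hax ⟨x, hx⟩
    calc x * (a⁻¹ * r) = a⁻¹ * (a * x * a⁻¹) * r := by group
      _ = a⁻¹ * ((r : Ω) * x * (r : Ω)⁻¹) * r := by rw [h1]
      _ = a⁻¹ * r * x := by group
  simpa using E.mul_mem ha (h.cent hcent)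

theorem data_of [Finite S] (hS : IsPGroup p S) (hF : F.IsSaturated p) {E : Subgroup Ω}
    (hc : F.IsCentric E) (hn : F.IsFullyNormalized E) (hr : F.IsRadical p E) (hlt : E < S) :
    ∃ T : Sylow p ↥(F.autGroup E), Data p F E T := by
  haveI := finite_of_le hc.1
  haveI := finite_mulAut E
  obtain ⟨R, hR⟩ := (fullyAutomized_of_fullyNormalized hS hF hn).2
  have hIR : (Cfsg.Inn E).subgroupOf (F.autGroup E) ≤ R := by
    rw [hR]; exact fun g hg => inn_le_autInducedBy hc.1 hg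
  refine ⟨R, hc.1, hc.2 E (isConj_refl hc.1), inferInstance, fun g =>
    SetLike.ext_iff.mp hR g, hIR, inn_subgroupOf_normal, fun N hN hNp g hg => ?_, ?_⟩
  · have : (g : MulAut E) ∈ (pCore p (F.autGroup E)).map (F.autGroup E).subtype :=
      ⟨g, MetaClosed.mem_pCore N hN hNp hg, rfl⟩
    rw [hr.2] at this
    exact this
  · intro hle
    obtain ⟨g, hg, hgE⟩ := SetLike.exists_of_lt (lt_normalizerIn hS hlt)
    have h1 : cg hc.1 ⟨g, hg⟩ ∈ (R : Subgroup ↥(F.autGroup E)) := by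
      rw [hR]; exact (range_conjAutHom S E).le ⟨⟨g, hg⟩, rfl⟩
    obtain ⟨a, ha, hax⟩ := mem_inn.mp (Subgroup.mem_subgroupOf.mp (hle h1))
    have hcent : a⁻¹ * g ∈ centralizerIn S E := by
      refine ⟨S.mul_mem (S.inv_mem (hc.1 ha)) hg.1, Subgroup.mem_centralizer_iff.mpr fun x hx => ?_⟩
      have h2 : g * x * g⁻¹ = a * x * a⁻¹ := hax ⟨x, hx⟩
      calc x * (a⁻¹ * g) = a⁻¹ * (a * x * a⁻¹) * g := by group
        _ = a⁻¹ * (g * x * g⁻¹) * g := by rw [h2]
        _ = a⁻¹ * g * x := by group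
    exact hgE (by simpa using E.mul_mem ha (hc.2 E (isConj_refl hc.1) hcent))

/-- Automorphisms normalizing the induced Sylow subgroup extend to the normalizer. -/
theorem extend [Finite S] (hS : IsPGroup p S) (hF : F.IsSaturated p) {E : Subgroup Ω}
    (hn : F.IsFullyNormalized E) {T : Sylow p ↥(F.autGroup E)}
    (hT : ∀ g, g ∈ T ↔ (g : MulAut E) ∈ autInducedBy S E) (β : ↥(F.autGroup E))
    (hβ : β ∈ Subgroup.normalizer ((T : Subgroup ↥(F.autGroup E)) : Set ↥(F.autGroup E))) :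
    ∃ f, IsMap F (normalizerIn S E) f ∧ (∀ x : E, f x = ((β : MulAut E) x : Ω)) ∧
      (∀ n ∈ normalizerIn S E, f n ∈ normalizerIn S E) ∧
      ∀ (r : ↥(normalizerIn S E)) (hr : f r ∈ normalizerIn S E),
        cg hn.1 (⟨f r, hr⟩ : ↥(normalizerIn S E)) = β * cg hn.1 r * β⁻¹ := by
  have hiso : IsIso F E E (autFun (β : MulAut E)) := (mem_autGroup hn.1).mp β.2
  have hM : IsExtendable S E (autFun (β : MulAut E)) (normalizerIn S E) := by
    refine ⟨inf_le_left, fun g hg => ⟨hg.2, ?_⟩⟩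
    have h1 : β * cg hn.1 ⟨g, hg⟩ * β⁻¹ ∈ T :=
      (Subgroup.mem_normalizer_iff.mp hβ _).mp ((hT _).mpr (range_conjAutHom S E ▸ ⟨_, rfl⟩))
    obtain ⟨h, hh, hx⟩ := mem_autInducedBy.mp ((hT _).mp h1)
    refine ⟨h, hh, fun x hxE => ?_⟩
    have h2 := hx ((β : MulAut E) ⟨x, hxE⟩)
    rw [Subgroup.coe_mul, Subgroup.coe_mul, Subgroup.coe_inv, MulAut.mul_apply, MulAut.mul_apply] at h2
    rw [show ((β : MulAut E))⁻¹ ((β : MulAut E) ⟨x, hxE⟩) = ⟨x, hxE⟩ from
      (β : MulAut E).symm_apply_apply _] at h2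
    rw [autFun_of_mem _ (conj_mem_of_mem_normalizer hg.2 hxE), autFun_of_mem _ hxE, ← h2]
    rfl
  obtain ⟨f, hf, he⟩ := receptive_extend (receptive_of_fullyNormalized hS hF hn) hiso hM
  have hEf : ∀ x : E, f x = ((β : MulAut E) x : Ω) := fun x => (he x.2).trans (autFun_coe _ x)
  have hfN : ∀ n ∈ normalizerIn S E, f n ∈ normalizerIn S E := fun n hn' =>
    map_mem_normalizer hf le_sup_left ((Set.image_congr he).trans (autFun_image _))
      (le_sup_right (a := E) hn') hn'.2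
  refine ⟨f, hf.mono le_sup_right, hEf, hfN, fun r hr => Subtype.ext (MulEquiv.ext fun y => ?_)⟩
  obtain ⟨x, rfl⟩ := (β : MulAut E).surjective y
  apply Subtype.ext
  rw [Subgroup.coe_mul, Subgroup.coe_mul, Subgroup.coe_inv, MulAut.mul_apply, MulAut.mul_apply,
    show ((β : MulAut E))⁻¹ ((β : MulAut E) x) = x from (β : MulAut E).symm_apply_apply _, cg_apply,
    ← hEf, ← hEf, cg_apply]
  exact (hf.map_conj (le_sup_right (a := E) r.2) (le_sup_left (b := normalizerIn S E) x.2)).symm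

/-- A plane on which the automorphism group acts with a `p`-group as kernel. -/
theorem Data.plane {E : Subgroup Ω} {T : Sylow p ↥(F.autGroup E)} (h : Data p F E T) {W : Type*} [Group W]
    (hW : Plane p W) (ψ : ↥(F.autGroup E) →* MulAut W) (hker : IsPGroup p ψ.ker) :
    ∃ e, Line ψ T e ∧ (∃ γ, ψ γ e ∉ Subgroup.zpowers e) ∧
      ∀ g ∈ (Cfsg.Inn E).subgroupOf (F.autGroup E), ψ g = 1 := by
  haveI := h.finite
  haveI := h.inn_normal
  have hk : ψ.ker ≤ (Cfsg.Inn E).subgroupOf (F.autGroup E) := h.core _ inferInstance hker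
  obtain ⟨e, he⟩ := exists_line hW ψ hker T (by
    by_contra hno
    push Not at hno
    exact h.not_le fun g hg => hk (hno g hg))
  have hmove := he.exists_move hW fun hn => h.not_le (h.core _ hn T.2)
  exact ⟨e, he, hmove, he.trivial_of_normal hW hmove _ h.inn_T⟩

end Cfsg.Agent.FG75.RankTwo
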