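import Mathlib
import Cfsg.Agent.FG75.RankTwo.Local

/-!
# Essential subgroups detected on a four-group analogue
-/

set_option autoImplicit false
set_option linter.all false
set_option maxHeartbeats 800000

namespace Cfsg.Agent.FG75.RankTwo

open Cfsg
open Cfsg.Agent
open Cfsg.Agent.Fusion
open Cfsg.FusionSystem (normalizerIn centralizerIn)
open scoped commutatorElement

variable {p : ℕ} [hp : Fact p.Prime]
variable {Ω : Type*} [Group Ω] {S : Subgroup Ω} [Finite S] {F : FusionSystem S}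

/-- What remains in the abelian case. -/
structure Pearl (p : ℕ) (F : FusionSystem S) (E : Subgroup Ω) : Prop where
  le : E ≤ S
  plane : Plane p ↥E
  heis : Heis p ↥(normalizerIn S E)
  lt : normalizerIn S E < S
  diag : ∃ (x : Ω) (f : Ω → Ω), IsMap F (normalizerIn S E) f ∧
    (∀ n ∈ normalizerIn S E, f n ∈ normalizerIn S E) ∧ (∀ a ∈ E, f a ∈ E) ∧ x ∈ E ∧
    (∃ n ∈ normalizerIn S E, n * x ≠ x * n) ∧ f x = x ^ 2

theorem pearl_of_abelian (hp5 : 5 ≤ p) (hS : IsPGroup p S) (hF : F.IsSaturated p)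
    (hr : ∀ A : Subgroup Ω, A ≤ S → Cfsg.IsElementaryAbelian p A → Nat.card A ≤ p ^ 2)
    (hnotE : ¬ (Nat.card S = p ^ 3 ∧ Monoid.exponent ↥S = p))
    {E : Subgroup Ω} (hn : F.IsFullyNormalized E) {T : Sylow p ↥(F.autGroup E)} (h : Data p F E T)
    (C : Subgroup ↥E) [C.Characteristic] (hC : Plane p ↥C)
    (hfaith : ∀ β : MulAut ↥E, (orderOf β).Coprime p → (∀ x ∈ C, β x = x) → β = 1) : Pearl p F E := by
  haveI := h.finite
  haveI : Finite E := finite_of_le h.le
  haveI := h.inn_normal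
  let ψ : ↥(F.autGroup E) →* MulAut ↥C := (restrictChar C).comp (F.autGroup E).subtype
  have hker : IsPGroup p ψ.ker := by
    rintro ⟨g, hg⟩
    obtain ⟨k, hk⟩ := coprime_part (p := p) g
    refine ⟨k, Subtype.ext (Subtype.ext ?_)⟩
    show ((g ^ p ^ k : ↥(F.autGroup E)) : MulAut ↥E) = 1
    refine hfaith _ (by rwa [Subgroup.orderOf_coe]) fun x hx => ?_
    have h1 : ψ (g ^ p ^ k) = 1 := by rw [map_pow, MonoidHom.mem_ker.mp hg, one_pow]
    exact congrArg Subtype.val (MulEquiv.congr_fun h1 ⟨x, hx⟩)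
  obtain ⟨e, he, hmove, hinn⟩ := h.plane hC ψ hker
  obtain ⟨w, hwe, hdiag⟩ := he.exists_diag hC hmove
  let v : ↥C →* Ω := E.subtype.comp C.subtype
  have hv : Function.Injective v := E.subtype_injective.comp C.subtype_injective
  have hvS : ∀ c : ↥C, v c ∈ S := fun c => h.le (c : ↥E).2
  have hcen : ∀ (c : ↥C) (a : ↥E), (c : ↥E) * a = a * c := by
    intro c a
    have h1 := hinn ⟨MulAut.conj a, inn_le_autGroup h.le ⟨a, rfl⟩⟩ ⟨a, rfl⟩
    have h2 : a * (c : ↥E) * a⁻¹ = c := congrArg Subtype.val (MulEquiv.congr_fun h1 c)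
    exact (mul_inv_eq_iff_eq_mul.mp h2).symm
  have hom : ∀ a : ↥E, a ^ p = 1 → a ∈ C := by
    intro a ha
    obtain ⟨i, j, hij⟩ := noThree hS hr (hvS e) (hvS w) (h.le a.2) (by rw [← map_mul, hC.comm, map_mul])
      (congrArg Subtype.val (hcen e a)) (congrArg Subtype.val (hcen w a))
      (by rw [← map_pow, hC.pow, map_one]) (by rw [← map_pow, hC.pow, map_one])
      (by rw [← Subgroup.coe_pow, ha]; rfl) (fun h' => he.ne (hv (h'.trans (map_one v).symm))) (fun h' => hwe (by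
        obtain ⟨m, hm⟩ := Subgroup.mem_zpowers_iff.mp h'
        rw [← map_zpow] at hm
        exact Subgroup.mem_zpowers_iff.mpr ⟨m, hv hm⟩))
    rw [← map_zpow, ← map_zpow, ← map_mul] at hij
    have : a = ((e ^ i * w ^ j : ↥C) : ↥E) := Subtype.ext hij
    rw [this]
    exact (e ^ i * w ^ j).2
  -- minus one
  have hp1 : (((p - 1) * (p - 1) : ℕ) : ZMod p) = 1 := by
    rw [Nat.cast_mul, Nat.cast_sub hp.out.one_le]; simp
  obtain ⟨g, hgN, hgcop, hge, hgw⟩ := hdiag (p - 1) (p - 1) hp1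
  have hg : ∀ c : ↥C, ψ g c = c⁻¹ := by
    intro c
    obtain ⟨i, j, rfl⟩ := hC.span he.ne hwe c
    have hm : (((p - 1 : ℕ) : ℤ) : ZMod p) = ((-1 : ℤ) : ZMod p) := by
      push_cast [Nat.cast_sub hp.out.one_le]; simp
    rw [map_mul (ψ g), map_zpow, map_zpow, hge, hgw, zpow_congr (hC.pow e) hm, zpow_congr (hC.pow w) hm,
      zpow_neg_one, zpow_neg_one, inv_zpow, inv_zpow, mul_inv_rev, hC.comm]
  have hfixed : ∀ a : ↥E, (g : MulAut ↥E) a = a → a = 1 := by
    intro a ha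
    by_contra ha1
    let L : Subgroup ↥E := (g : ↥E ≃* ↥E).toMonoidHom.eqLocus (MonoidHom.id ↥E)
    obtain ⟨c, hcL, hc1, hcp⟩ := PGroup.exists_mem_pow_eq_one (hS.to_le h.le) (H := L) fun h' =>
      ha1 (Subgroup.mem_bot.mp (h' ▸ (ha : a ∈ L)))
    have h1 := congrArg Subtype.val (hg ⟨c, hom c hcp⟩)
    change (g : MulAut ↥E) c = c⁻¹ at h1
    rw [show (g : MulAut ↥E) c = c from hcL] at h1
    have h2 : c ^ 2 = 1 := by rw [sq]; nth_rewrite 1 [h1]; exact inv_mul_cancel c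
    have h3 : orderOf c ∣ Nat.gcd 2 p := Nat.dvd_gcd (orderOf_dvd_of_pow_eq_one h2) (orderOf_dvd_of_pow_eq_one hcp)
    rw [show Nat.gcd 2 p = 1 from (Nat.coprime_primes Nat.prime_two hp.out).mpr (by omega)] at h3
    exact hc1 (orderOf_eq_one_iff.mp (Nat.dvd_one.mp h3))
  have hgg : ∀ a : ↥E, (g : MulAut ↥E) ((g : MulAut ↥E) a) = a := by
    have h1 : g * g ∈ ψ.ker := by
      refine MonoidHom.mem_ker.mpr (MulEquiv.ext fun c => ?_)
      rw [map_mul, MulAut.mul_apply, hg, hg, inv_inv]; rfl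
    have h2 : g * g = 1 := eq_one_of_coprime hker h1
      (Nat.Coprime.coprime_dvd_left (orderOf_dvd_of_pow_eq_one (by
        rw [← sq, ← pow_mul, mul_comm, pow_mul, pow_orderOf_eq_one, one_pow])) hgcop)
    intro a
    exact MulEquiv.congr_fun (congrArg Subtype.val h2) a
  have hinv : ∀ a : ↥E, (g : MulAut ↥E) a = a⁻¹ := by
    have hinj : Function.Injective fun a : ↥E => a⁻¹ * (g : MulAut ↥E) a := fun a b hab => by
      refine mul_inv_eq_one.mp (hfixed (a * b⁻¹) ?_)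
      have h1 : (g : MulAut ↥E) a = a * (b⁻¹ * (g : MulAut ↥E) b) := by
        simp only at hab
        rw [← hab]; exact (mul_inv_cancel_left _ _).symm
      rw [map_mul, map_inv, h1]; group
    intro a
    obtain ⟨b, rfl⟩ := (Finite.injective_iff_surjective.mp hinj) a
    rw [map_mul, map_inv, hgg, mul_inv_rev, inv_inv]
  have hEc : ∀ a b : ↥E, a * b = b * a := fun a b => by
    have h1 := map_mul (g : MulAut ↥E) a b
    rw [hinv, hinv, hinv, ← mul_inv_rev, inv_inj] at h1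
    exact h1
  have hInn : ∀ x ∈ (Cfsg.Inn E).subgroupOf (F.autGroup E), x = 1 := by
    intro x hx
    obtain ⟨a, ha⟩ := Subgroup.mem_subgroupOf.mp hx
    refine Subtype.ext (ha.symm.trans (MulEquiv.ext fun b => ?_))
    rw [MulAut.conj_apply, hEc a b, mul_inv_cancel_right]; rfl
  have hψinj : ∀ x, ψ x = 1 → x = 1 := fun x hx => hInn x (h.core _ inferInstance hker (MonoidHom.mem_ker.mpr hx))
  obtain ⟨t, htT, htfix⟩ := he.moved
  have htp : t ^ p = 1 := hψinj _ (by rw [map_pow]; exact he.pow_eq_one hC htT)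
  -- exponent `p`
  have hexp : ∀ a : ↥E, a ^ p = 1 := by
    by_contra hno
    push Not at hno
    obtain ⟨a₁, ha₁⟩ := hno
    let pw : ↥E →* ↥E :=
      { toFun := fun a => a ^ p
        map_one' := one_pow _
        map_mul' := fun a b => (show Commute a b from hEc a b).mul_pow p }
    obtain ⟨c, hc, hc1, hcp⟩ := PGroup.exists_mem_pow_eq_one (hS.to_le h.le) (H := pw.range) fun h' =>
      ha₁ (Subgroup.mem_bot.mp (h' ▸ (⟨a₁, rfl⟩ : a₁ ^ p ∈ pw.range)))
    let L : Subgroup ↥C := pw.range.subgroupOf C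
    have hLinv : ∀ (x : ↥(F.autGroup E)), ∀ l ∈ L, ψ x l ∈ L := by
      rintro x l ⟨b, hb⟩
      refine ⟨(x : MulAut ↥E) b, ?_⟩
      show ((x : MulAut ↥E) b) ^ p = (x : MulAut ↥E) (l : ↥E)
      rw [← map_pow, show b ^ p = (l : ↥E) from hb]
    have hLtop := (he.irreducible hC hmove L hLinv).resolve_left fun h' => hc1 (by
      have : (⟨c, hom c hcp⟩ : ↥C) ∈ L := hc
      rw [h', Subgroup.mem_bot] at this
      exact congrArg Subtype.val this)
    obtain ⟨b, hb⟩ : ((w : ↥C) : ↥E) ∈ pw.range := (hLtop ▸ Subgroup.mem_top w : w ∈ L)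
    change b ^ p = (w : ↥E) at hb
    let τ : MulAut ↥E := (t : MulAut ↥E)
    let d : ↥E →* ↥E := MonoidHom.mk' (fun a => a⁻¹ * τ a) fun a a' => by
      rw [map_mul, mul_inv_rev, hEc a'⁻¹ a⁻¹, mul_assoc, mul_assoc, ← mul_assoc a'⁻¹, hEc a'⁻¹ (τ a), mul_assoc]
    have hτ : ∀ a, τ a = a * d a := fun a => (mul_inv_cancel_left _ _).symm
    have hde : d (e : ↥E) = 1 := by
      show (e : ↥E)⁻¹ * τ e = 1
      rw [show τ e = (e : ↥E) from congrArg Subtype.val (he.fixed t htT), inv_mul_cancel]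
    have hdC : ∀ c : ↥C, d c ∈ Subgroup.zpowers ((e : ↥C) : ↥E) := by
      intro c
      obtain ⟨i, hi⟩ := Subgroup.mem_zpowers_iff.mp (he.quot t htT c)
      exact Subgroup.mem_zpowers_iff.mpr ⟨i, by rw [← Subgroup.coe_zpow, hi]; rfl⟩
    obtain ⟨d1, hd1⟩ : ∃ x, x = d b := ⟨_, rfl⟩
    obtain ⟨d2, hd2⟩ : ∃ x, x = d d1 := ⟨_, rfl⟩
    obtain ⟨d3, hd3⟩ : ∃ x, x = d d2 := ⟨_, rfl⟩
    have hd1p : d1 ^ p = d (w : ↥E) := by rw [hd1, ← map_pow, hb]
    have hd2p : d2 ^ p = 1 := by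
      rw [hd2, ← map_pow, hd1p]
      obtain ⟨i, hi⟩ := Subgroup.mem_zpowers_iff.mp (hdC w)
      rw [← hi, map_zpow, hde, one_zpow]
    have hd3e : d3 ∈ Subgroup.zpowers ((e : ↥C) : ↥E) := hd3 ▸ hdC ⟨d2, hom d2 hd2p⟩
    have hd4 : d d3 = 1 := by
      obtain ⟨i, hi⟩ := Subgroup.mem_zpowers_iff.mp hd3e
      rw [← hi, map_zpow, hde, one_zpow]
    have hd3p : d3 ^ p = 1 := by rw [hd3, ← map_pow, hd2p, map_one]
    have hiter : ∀ m : ℕ, (τ ^ m) b = b * d1 ^ m * d2 ^ (m.choose 2) * d3 ^ (m.choose 3) := by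
      intro m
      induction m with
      | zero => simp [Nat.choose]
      | succ m ih =>
        rw [pow_succ', MulAut.mul_apply, ih, map_mul, map_mul, map_mul, map_pow, map_pow, map_pow, hτ b, hτ d1,
          hτ d2, hτ d3, ← hd1, ← hd2, ← hd3, hd4, mul_one, (show Commute d1 d2 from hEc _ _).mul_pow,
          (show Commute d2 d3 from hEc _ _).mul_pow, Nat.choose_succ_succ m 1, Nat.choose_succ_succ m 2,
          Nat.choose_one_right, pow_add d2, pow_add d3, pow_succ' d1]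
        simp only [mul_assoc]
    have h1 := hiter p
    have h2 : τ ^ p = 1 := by
      show (t : MulAut ↥E) ^ p = 1
      rw [← Subgroup.coe_pow, htp]; rfl
    rw [h2, MulAut.one_apply] at h1
    obtain ⟨c2, hc2⟩ := hp.out.dvd_choose_self (k := 2) (by norm_num) (by omega)
    obtain ⟨c3, hc3⟩ := hp.out.dvd_choose_self (k := 3) (by norm_num) (by omega)
    rw [hc2, pow_mul, hd2p, one_pow, mul_one, hc3, pow_mul, hd3p, one_pow, mul_one, left_eq_mul, hd1p] at h1
    refine hwe (htfix w (Subtype.ext ?_))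
    have h3 : (w : ↥E)⁻¹ * τ w = 1 := h1
    exact (inv_mul_eq_one.mp h3).symm
  have hEC : C = ⊤ := eq_top_iff.mpr fun a _ => hom a (hexp a)
  have hEcard : Nat.card ↥E = p ^ 2 := by
    rw [← hC.card]
    exact (Nat.card_congr ((MulEquiv.subgroupCongr hEC).trans Subgroup.topEquiv).toEquiv).symm
  have hEplane : Plane p ↥E := ⟨inferInstance, hEcard, hEc, hexp⟩
  -- the normalizer
  have hTcard : Nat.card ↥(T : Subgroup ↥(F.autGroup E)) = p := by
    let j : ↥(T : Subgroup ↥(F.autGroup E)) → Subgroup.zpowers e := fun x => ⟨w⁻¹ * ψ x w, he.quot x x.2 w⟩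
    have hj : Function.Injective j := by
      intro x y hxy
      have h1 : ψ x w = ψ y w := mul_left_cancel (congrArg Subtype.val hxy)
      have h2 : ψ (x : ↥(F.autGroup E)) = ψ (y : ↥(F.autGroup E)) := MulEquiv.ext fun c => by
        obtain ⟨i, k, rfl⟩ := hC.span he.ne hwe c
        rw [map_mul, map_mul, map_zpow, map_zpow, map_zpow, map_zpow, he.fixed x x.2, he.fixed y y.2, h1]
      exact Subtype.ext (mul_inv_eq_one.mp (hψinj _ (by rw [map_mul, map_inv, h2, mul_inv_cancel])))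
    have hle := Nat.card_le_card_of_injective j hj
    rw [hC.card_zpowers he.ne] at hle
    obtain ⟨n, hn'⟩ := IsPGroup.iff_card.mp T.2
    have hne : Nat.card ↥(T : Subgroup ↥(F.autGroup E)) ≠ 1 := fun h1 => by
      rw [Subgroup.card_eq_one] at h1
      exact h.not_le (by rw [h1]; exact bot_le)
    rw [hn'] at hle hne ⊢
    have : n ≤ 1 := (Nat.pow_le_pow_iff_right hp.out.one_lt).mp (by rwa [pow_one])
    interval_cases n
    · simp at hne
    · rw [pow_one]
  have hNcard : Nat.card ↥(normalizerIn S E) = p ^ 3 := by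
    have hTeq : (T : Subgroup ↥(F.autGroup E)) = (autInducedBy S E).subgroupOf (F.autGroup E) :=
      Subgroup.ext fun x => h.mem_T x
    rw [hTeq, Nat.card_congr (Subgroup.subgroupOfEquivOfLe (autInducedBy_le_autGroup h.le)).toEquiv] at hTcard
    have hcent : centralizerIn S E = E := le_antisymm h.cent fun a ha => ⟨h.le ha,
      Subgroup.mem_centralizer_iff.mpr fun b hb => congrArg Subtype.val (hEc ⟨b, hb⟩ ⟨a, ha⟩)⟩
    rw [← card_autInducedBy_mul S E, hTcard, hcent, hEcard]; ring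
  set N := normalizerIn S E with hN
  haveI : Finite ↥N := finite_of_le (inf_le_left : normalizerIn S E ≤ S)
  have hNE : E ≤ N := le_normalizerIn h.le
  obtain ⟨r₁, hr₁⟩ := h.exists_cg htT
  have hwt : ψ t w ≠ w := fun h' => hwe (htfix w h')
  have hnc : (r₁ : Ω) * v w ≠ v w * (r₁ : Ω) := by
    intro h'
    apply hwt
    apply hv
    show (((t : MulAut ↥E) (w : ↥E) : ↥E) : Ω) = _
    rw [← hr₁, cg_apply]
    show (r₁ : Ω) * v w * (r₁ : Ω)⁻¹ = v w
    rw [h', mul_inv_cancel_right]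
  have hNp : IsPGroup p ↥N := hS.to_le (inf_le_left : normalizerIn S E ≤ S)
  -- class two
  have hcl : commutator ↥N ≤ Subgroup.center ↥N := by
    haveI : Nontrivial ↥N := ⟨⟨r₁, 1, fun h' => hnc (by rw [h']; simp)⟩⟩
    haveI := hNp.center_nontrivial
    obtain ⟨k, hk, hck⟩ := (hNp.to_subgroup (Subgroup.center ↥N)).nontrivial_iff_card.mp inferInstance
    have h1 := Subgroup.card_eq_card_quotient_mul_card_subgroup (Subgroup.center ↥N)
    obtain ⟨m, hm⟩ := IsPGroup.iff_card.mp (hNp.to_quotient (Subgroup.center ↥N))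
    rw [hNcard, hm, hck, ← pow_add] at h1
    have h2 := Nat.pow_right_injective hp.out.two_le h1
    have hncyc : ¬ IsCyclic (↥N ⧸ Subgroup.center ↥N) := fun hc => hnc (congrArg Subtype.val
      ((commutative_of_cyclic_center_quotient (QuotientGroup.mk' (Subgroup.center ↥N)) (by simp)) r₁ ⟨v w, hNE (w : ↥E).2⟩))
    have hm2 : m = 2 := by
      by_contra hm2
      apply hncyc
      rcases (show m = 0 ∨ m = 1 by omega) with rfl | rfl
      · haveI := (Nat.card_eq_one_iff_unique.mp (hm.trans (pow_zero p))).1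
        exact isCyclic_of_subsingleton
      · exact isCyclic_of_prime_card (p := p) (hm.trans (pow_one p))
    subst hm2
    haveI := IsPGroup.isMulCommutative_of_card_eq_prime_sq (p := p) hm
    exact Subgroup.Normal.quotient_commutative_iff_commutator_le.mp this
  obtain ⟨f, hf, hfE, hfN, hfc⟩ := extend hS hF hn h.mem_T g hgN
  have hfinv : ∀ a : ↥E, f a = (a : Ω)⁻¹ := fun a => by rw [hfE, hinv]; rfl
  have hNexp : ∀ n : ↥N, n ^ p = 1 := by
    intro n
    have hnp : (n : Ω) ^ p ∈ E := by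
      have h1 : cg h.le (n ^ p) ∈ (Cfsg.Inn E).subgroupOf (F.autGroup E) := by
        rw [cg_pow, show cg h.le n ^ p = 1 from hψinj _ (by rw [map_pow]; exact he.pow_eq_one hC (h.cg_mem h.le n))]
        exact one_mem _
      simpa using h.mem_of_inn _ h1
    obtain ⟨m, hm⟩ : ∃ m : ↥N, m = ⟨f n, hfN n n.2⟩ := ⟨_, rfl⟩
    have hmc : cg (F := F) h.le m = cg h.le n := by
      rw [hm, hfc n (hfN n n.2)]
      refine mul_inv_eq_of_eq_mul (Subtype.ext (MulEquiv.ext fun a => ?_))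
      show (g : MulAut ↥E) ((cg (F := F) h.le n : MulAut ↥E) a) = (cg (F := F) h.le n : MulAut ↥E) ((g : MulAut ↥E) a)
      rw [hinv, hinv, map_inv]
    have hcE : ((n⁻¹ * m : ↥N) : Ω) ∈ E := h.mem_of_inn _ (by
      rw [cg_mul, hmc, ← cg_mul, inv_mul_cancel,
        show cg (F := F) h.le 1 = 1 from Subtype.ext (map_one (conjAutHom S E))]
      exact one_mem _)
    have hcp : (n⁻¹ * m) ^ p = 1 := Subtype.ext (by
      rw [Subgroup.coe_pow]; exact congrArg Subtype.val (hexp ⟨_, hcE⟩))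
    have hmul : (n * (n⁻¹ * m)) ^ p = n ^ p * (n⁻¹ * m) ^ p := by
      refine PGroup.mul_pow_prime_classTwo hcl hp.out (by omega) (Subtype.ext ?_)
      have h1 : ((⁅n⁻¹ * m, n⁆ : ↥N) : Ω) ∈ E := by
        rw [commutatorElement_def, mul_assoc, mul_assoc]
        push_cast
        refine E.mul_mem hcE ?_
        rw [← mul_assoc]
        exact conj_mem_of_mem_normalizer n.2.2 (E.inv_mem hcE)
      rw [Subgroup.coe_pow]
      exact congrArg Subtype.val (hexp ⟨_, h1⟩)
    rw [mul_inv_cancel_left, hcp, mul_one] at hmul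
    have h2 : ((n : Ω) ^ p)⁻¹ = (n : Ω) ^ p := by
      have h3 : f ((n : Ω) ^ p) = (n : Ω) ^ p := by
        rw [hf.map_pow n.2]
        have := congrArg Subtype.val hmul
        rw [Subgroup.coe_pow, hm, Subgroup.coe_pow] at this
        exact this
      rw [← hfinv ⟨_, hnp⟩]
      exact h3
    have h4 : ((n : Ω) ^ p) ^ 2 = 1 := by rw [sq]; nth_rewrite 1 [← h2]; exact inv_mul_cancel _
    have h5 : ((n : Ω) ^ p) ^ p = 1 := congrArg Subtype.val (hexp ⟨_, hnp⟩)
    have h6 := Nat.dvd_gcd (orderOf_dvd_of_pow_eq_one h4) (orderOf_dvd_of_pow_eq_one h5)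
    rw [show Nat.gcd 2 p = 1 from (Nat.coprime_primes Nat.prime_two hp.out).mpr (by omega)] at h6
    exact Subtype.ext (by rw [Subgroup.coe_pow]; exact orderOf_eq_one_iff.mp (Nat.dvd_one.mp h6))
  have hHeis : Heis p ↥N := by
    rcases small_cases hNp hNexp (noThree_type hS hr N.subtype N.subtype_injective fun x => x.2.1) with h1 | h1 | h1
    · rw [hNcard] at h1
      have := Nat.pow_lt_pow_right hp.out.one_lt (show 1 < 3 by norm_num)
      rw [pow_one] at this
      omega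
    · exact absurd (congrArg Subtype.val (h1.comm r₁ ⟨v w, hNE (w : ↥E).2⟩)) hnc
    · exact h1
  have hNS : N < S := by
    refine lt_of_le_of_ne (inf_le_left : normalizerIn S E ≤ S) fun hNS => hnotE ⟨hNS ▸ hNcard, ?_⟩
    rw [← hNS]
    rcases (Nat.dvd_prime hp.out).mp (Monoid.exponent_dvd_of_forall_pow_eq_one hNexp) with h1 | h1
    · exfalso
      have h2 : r₁ = 1 := by
        have := Monoid.pow_exponent_eq_one r₁
        rwa [h1, pow_one] at this
      exact hnc (by rw [h2]; simp)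
    · exact h1
  obtain ⟨a, ha⟩ : ∃ a : ℕ, ((a * 2 : ℕ) : ZMod p) = 1 := by
    refine ⟨(2 : ZMod p)⁻¹.val, ?_⟩
    push_cast
    rw [ZMod.natCast_zmod_val]
    exact inv_mul_cancel₀ (by
      intro h2
      have h3 : ((2 : ℕ) : ZMod p) = 0 := by exact_mod_cast h2
      rw [ZMod.natCast_eq_zero_iff] at h3
      have := Nat.le_of_dvd two_pos h3
      omega)
  obtain ⟨β, hβN, -, -, hβw⟩ := hdiag a 2 ha
  obtain ⟨f', hf', hf'E, hf'N, -⟩ := extend hS hF hn h.mem_T β hβN
  refine ⟨h.le, hEplane, hHeis, hNS, v w, f', hf', hf'N, fun b hb => ?_, (w : ↥E).2, ⟨r₁, r₁.2, hnc⟩, ?_⟩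
  · rw [show b = ((⟨b, hb⟩ : ↥E) : Ω) from rfl, hf'E]
    exact Subtype.mem _
  · show f' ((w : ↥E) : Ω) = v w ^ 2
    rw [hf'E]
    show v (ψ β w) = v w ^ 2
    rw [hβw, ← map_pow, zpow_natCast]

end Cfsg.Agent.FG75.RankTwo
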