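import Mathlib
import Cfsg.Agent.FG75.RankTwo.Abelian

/-!
# No essential elementary abelian subgroup of order `p²` in rank two
-/

set_option autoImplicit false
set_option linter.all false
set_option maxHeartbeats 4000000

namespace Cfsg.Agent.FG75.RankTwo

open Cfsg
open Cfsg.Agent
open Cfsg.Agent.Fusion
open Cfsg.FusionSystem (normalizerIn centralizerIn)
open scoped commutatorElement

variable {p : ℕ} [hp : Fact p.Prime]
variable {Ω : Type*} [Group Ω] {S : Subgroup Ω} [Finite S] {F : FusionSystem S}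

theorem false_of_pearl (hp5 : 5 ≤ p) (hS : IsPGroup p S) (hF : F.IsSaturated p)
    (hr : ∀ A : Subgroup Ω, A ≤ S → Cfsg.IsElementaryAbelian p A → Nat.card A ≤ p ^ 2)
    {E : Subgroup Ω} (hc : F.IsCentric E) (hn : F.IsFullyNormalized E) (P : Pearl p F E) : False := by
  obtain ⟨x₀, f, hf, hfN, hfE, hx₀E, ⟨n₀, hn₀, hnx⟩, hfx⟩ := P.diag
  set N := normalizerIn S E with hNdef
  have hNS : N ≤ S := inf_le_left
  haveI : Finite ↥N := finite_of_le hNS
  haveI : Finite E := finite_of_le P.le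
  have hNE : E ≤ N := le_normalizerIn P.le
  obtain ⟨N', hNN', hN'n⟩ := exists_fullyNormalized (F := F) hNS
  obtain ⟨φ, hφ, hφiso, hφN⟩ := exists_normalizer_map hS (fullyAutomized_of_fullyNormalized hS hF hN'n)
    (receptive_of_fullyNormalized hS hF hN'n) hNN'
  have hN'S : N' ≤ S := hN'n.1
  haveI : Finite ↥N' := finite_of_le hN'S
  have hN'card : Nat.card ↥N' = Nat.card ↥N := hφiso.card_eq.symm
  -- the image of `E`
  obtain ⟨E', hE'N', hE'iso⟩ := hφiso.restrict hNE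
  have hE'conj : F.IsConj E E' := hE'iso.isConj
  have hcentE' : centralizerIn S E' ≤ E' := hc.2 E' hE'conj
  have hN'norm : N' ≤ normalizerIn S E' := by
    intro y hy
    obtain ⟨n, hn', rfl⟩ := hφiso.exists_preimage hy
    exact map_mem_normalizer hφiso.1 hNE hE'iso.2 hn' hn'.2
  have hNE' : normalizerIn S E' = N' := by
    haveI : Finite ↥(normalizerIn S E') := finite_of_le (inf_le_left : normalizerIn S E' ≤ S)
    exact (Subgroup.eq_of_le_of_card_ge hN'norm (by rw [hN'card]; exact hn.2 E' hE'conj)).symm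
  -- `N'` has the same structure
  let eN : ↥N ≃* ↥N' := hφiso.equiv
  have hN'p : IsPGroup p ↥N' := hS.to_le hN'S
  have hN'exp : ∀ y : ↥N', y ^ p = 1 := fun y => by
    obtain ⟨n, rfl⟩ := eN.surjective y
    rw [← map_pow, P.heis.pow, map_one]
  have hH : Heis p ↥N' := by
    rcases small_cases hN'p hN'exp (noThree_type hS hr N'.subtype N'.subtype_injective fun y => hN'S y.2) with h1 | h1 | h1
    · exfalso
      have h2 := Subgroup.card_eq_card_quotient_mul_card_subgroup (Subgroup.center ↥N)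
      rw [P.heis.card_center, P.heis.plane.card] at h2
      rw [hN'card, h2] at h1
      have h4 : p < p ^ 2 * p := by nlinarith [hp.out.two_le]
      omega
    · exfalso
      obtain ⟨a, b, hab⟩ := P.heis.nonab
      exact hab (eN.injective (by rw [map_mul, map_mul, h1.comm]))
    · exact h1
  haveI : Finite ↥(F.autGroup N') := by
    haveI := finite_mulAut ↥N'
    infer_instance
  obtain ⟨T, hT⟩ := (fullyAutomized_of_fullyNormalized hS hF hN'n).2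
  have hTmem : ∀ g, g ∈ T ↔ (g : MulAut ↥N') ∈ autInducedBy S N' := fun g => SetLike.ext_iff.mp hT g
  let ψ : ↥(F.autGroup N') →* MulAut (↥N' ⧸ Subgroup.center ↥N') := (quotCenter ↥N').comp (F.autGroup N').subtype
  have hker : IsPGroup p ψ.ker := by
    rintro ⟨g, hg⟩
    refine ⟨1, Subtype.ext (Subtype.ext ?_)⟩
    rw [pow_one]
    exact (hH.quot_trivial (g : MulAut ↥N') hg).1
  -- distinguished element
  have hx₀N : x₀ ∈ N := hNE hx₀E
  let X₁ : ↥N' := eN ⟨x₀, hx₀N⟩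
  have hX₁E : (X₁ : Ω) ∈ E' := by
    show φ x₀ ∈ E'
    exact hE'iso.mem hx₀E
  have hX₁c : X₁ ∉ Subgroup.center ↥N' := fun h' => hnx (congrArg Subtype.val (eN.injective (by
    rw [map_mul, map_mul]
    exact Subgroup.mem_center_iff.mp h' _ : eN (⟨n₀, hn₀⟩ * ⟨x₀, hx₀N⟩) = eN (⟨x₀, hx₀N⟩ * ⟨n₀, hn₀⟩))))
  have hX₁q : (QuotientGroup.mk X₁ : ↥N' ⧸ Subgroup.center ↥N') ≠ 1 := fun h' => hX₁c ((QuotientGroup.eq_one_iff X₁).mp h')
  have hcenE' : ∀ z : ↥N', z ∈ Subgroup.center ↥N' → (z : Ω) ∈ E' := fun z hz => hcentE' ⟨hN'S z.2,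
    Subgroup.mem_centralizer_iff.mpr fun u hu =>
      congrArg Subtype.val (Subgroup.mem_center_iff.mp hz ⟨u, hE'N' hu⟩)⟩
  have hE'mem : ∀ u : ↥N', (u : Ω) ∈ E' ↔ (QuotientGroup.mk u : ↥N' ⧸ Subgroup.center ↥N') ∈
      Subgroup.zpowers (QuotientGroup.mk X₁ : ↥N' ⧸ Subgroup.center ↥N') := by
    intro u
    constructor
    · intro hu
      let Q : Subgroup (↥N' ⧸ Subgroup.center ↥N') := (E'.subgroupOf N').map (QuotientGroup.mk' _)
      rcases hH.plane.sub_cases hX₁q (L := Q) ⟨X₁, hX₁E, rfl⟩ with hq | hq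
      · rw [← hq]; exact ⟨u, hu, rfl⟩
      · exfalso
        apply hX₁c
        refine Subgroup.mem_center_iff.mpr fun w => ?_
        obtain ⟨w', hw', hww'⟩ : (QuotientGroup.mk w : ↥N' ⧸ Subgroup.center ↥N') ∈ Q := hq ▸ Subgroup.mem_top _
        have h1 : ⁅w, X₁⁆ = ⁅w', X₁⁆ := hH.comm_eq hww'.symm rfl
        obtain ⟨a', ha', hae⟩ := hE'iso.exists_preimage hX₁E
        obtain ⟨b', hb', hbe⟩ := hE'iso.exists_preimage (show (w' : Ω) ∈ E' from hw')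
        have h2 : w' * X₁ = X₁ * w' := Subtype.ext (by
          show (w' : Ω) * X₁ = X₁ * w'
          rw [← hae, ← hbe, ← hφiso.1.map_mul (hNE hb') (hNE ha'), ← hφiso.1.map_mul (hNE ha') (hNE hb'),
            show b' * a' = a' * b' from congrArg Subtype.val (P.plane.comm ⟨b', hb'⟩ ⟨a', ha'⟩)])
        rw [commutatorElement_eq_one_iff_mul_comm.mpr h2, commutatorElement_eq_one_iff_mul_comm] at h1
        exact h1
    · intro hu
      obtain ⟨i, hi⟩ := Subgroup.mem_zpowers_iff.mp hu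
      rw [← QuotientGroup.mk_zpow] at hi
      have h1 := E'.mul_mem (E'.zpow_mem hX₁E i) (hcenE' _ (QuotientGroup.eq.mp hi))
      simpa using h1
  let R := normalizerIn S N'
  have hN'R : N' ≤ R := le_normalizerIn hN'S
  have hnorm : ∀ r : ↥R, ψ (cg hN'S r) (QuotientGroup.mk X₁) ∈
      Subgroup.zpowers (QuotientGroup.mk X₁ : ↥N' ⧸ Subgroup.center ↥N') → (r : Ω) ∈ N' := by
    intro r hr'
    rw [← hNE']
    refine ⟨r.2.1, ?_⟩
    haveI : Finite E' := finite_of_le (hE'N'.trans hN'S)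
    have hfwd : ∀ u ∈ E', (r : Ω) * u * (r : Ω)⁻¹ ∈ E' := by
      intro u hu
      obtain ⟨i, hi⟩ := Subgroup.mem_zpowers_iff.mp ((hE'mem ⟨u, hE'N' hu⟩).mp hu)
      have h1 : (QuotientGroup.mk ((cg (F := F) hN'S r : MulAut ↥N') ⟨u, hE'N' hu⟩) : ↥N' ⧸ Subgroup.center ↥N') ∈
          Subgroup.zpowers (QuotientGroup.mk X₁ : ↥N' ⧸ Subgroup.center ↥N') := by
        show ψ (cg hN'S r) (QuotientGroup.mk (⟨u, hE'N' hu⟩ : ↥N')) ∈ _
        rw [← hi, map_zpow]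
        exact Subgroup.zpow_mem _ hr' i
      exact (hE'mem _).mpr h1
    have hsurj := surjOn_of_card_le (f := fun u => (r : Ω) * u * (r : Ω)⁻¹) (hE'N'.trans hN'S)
      (fun a _ b _ hab => mul_left_cancel (mul_right_cancel hab)) hfwd le_rfl
    refine Subgroup.mem_normalizer_iff.mpr fun u => ⟨hfwd u, fun hu => ?_⟩
    obtain ⟨v, hv, hve⟩ := hsurj _ hu
    rwa [← mul_left_cancel (mul_right_cancel hve)]
  have hψinn : ∀ a : ↥N', ψ (cg hN'S ⟨a, hN'R a.2⟩) = 1 := fun a => MulEquiv.ext fun q => by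
    obtain ⟨y, rfl⟩ := QuotientGroup.mk_surjective q
    show (QuotientGroup.mk (a * y * a⁻¹) : ↥N' ⧸ Subgroup.center ↥N') = QuotientGroup.mk y
    rw [QuotientGroup.mk_mul, QuotientGroup.mk_mul, QuotientGroup.mk_inv, hH.plane.comm, inv_mul_cancel_left]
  have hTcg : ∀ r : ↥R, cg hN'S r ∈ T := fun r => (hTmem _).mpr (range_conjAutHom S N' ▸ ⟨r, rfl⟩)
  have mem_N' : ∀ r : ↥R, ψ (cg hN'S r) = 1 → (r : Ω) ∈ N' := fun r hr' =>
    hnorm r (by rw [hr']; exact Subgroup.mem_zpowers _)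
  have hN'lt : N' < S := by
    refine lt_of_le_of_ne hN'S fun h' => P.lt.ne ?_
    exact Subgroup.eq_of_le_of_card_ge hNS (by rw [← hN'card, h'])
  obtain ⟨rₛ, hrₛ, hrₛN⟩ := SetLike.exists_of_lt (lt_normalizerIn hS hN'lt)
  obtain ⟨e, he⟩ := exists_line hH.plane ψ hker T ⟨_, hTcg ⟨rₛ, hrₛ⟩, fun h' => hrₛN (mem_N' _ h')⟩
  have hX₁e : (QuotientGroup.mk X₁ : ↥N' ⧸ Subgroup.center ↥N') ∉ Subgroup.zpowers e := by
    intro h'
    refine hrₛN (hnorm ⟨rₛ, hrₛ⟩ ?_)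
    obtain ⟨i, hi⟩ := Subgroup.mem_zpowers_iff.mp h'
    rw [← hi, map_zpow, he.fixed _ (hTcg _), hi]
    exact Subgroup.mem_zpowers _
  -- the transported automorphism
  obtain ⟨g₁, hg₁E⟩ : ∃ g : ↥(F.autGroup N'),
      ψ g (QuotientGroup.mk X₁) = (QuotientGroup.mk X₁ : ↥N' ⧸ Subgroup.center ↥N') ^ (2 : ℤ) := by
    have hfiso : IsIso F N N f := ⟨hf, Set.Subset.antisymm (by rintro _ ⟨u, hu, rfl⟩; exact hfN u hu)
      (fun u hu => surjOn_of_card_le hNS hf.injOn hfN le_rfl u hu)⟩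
    obtain ⟨φi, hφi, hφil, -⟩ := hφiso.exists_inv
    obtain ⟨α, hα, hαe⟩ := ((hφi.comp hfiso).comp hφiso).exists_aut
    refine ⟨⟨α, hα⟩, ?_⟩
    show QuotientGroup.mk (α X₁) = _
    rw [← QuotientGroup.mk_zpow]
    congr 1
    refine Subtype.ext ?_
    rw [← autFun_coe α X₁, hαe X₁.2]
    show φ (f (φi (φ x₀))) = ((X₁ ^ (2 : ℤ) : ↥N') : Ω)
    rw [hφil x₀ hx₀N, hfx, hφiso.1.map_pow hx₀N, zpow_ofNat, Subgroup.coe_pow]
    rfl
  -- an element normalizing the Sylow subgroup, squaring modulo the line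
  obtain ⟨g, w, hgN, hge, hw, s, hgw⟩ : ∃ (g : ↥(F.autGroup N')) (w : ↥N' ⧸ Subgroup.center ↥N'),
      g ∈ Subgroup.normalizer ((T : Subgroup ↥(F.autGroup N')) : Set ↥(F.autGroup N')) ∧
      (∃ d : ℤ, ψ g e = e ^ d) ∧ w ∉ Subgroup.zpowers e ∧ ∃ s : ℤ, ψ g w = w ^ (2 : ℤ) * e ^ s := by
    by_cases hmove : ∃ γ : ↥(F.autGroup N'), ψ γ e ∉ Subgroup.zpowers e
    · obtain ⟨w, hw, hdiag⟩ := he.exists_diag hH.plane hmove
      obtain ⟨a, ha⟩ : ∃ a : ℕ, ((a * 2 : ℕ) : ZMod p) = 1 := by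
        refine ⟨(2 : ZMod p)⁻¹.val, ?_⟩
        push_cast
        rw [ZMod.natCast_zmod_val]
        exact inv_mul_cancel₀ (by
          intro h2
          have h3 : ((2 : ℕ) : ZMod p) = 0 := by exact_mod_cast h2
          rw [ZMod.natCast_eq_zero_iff] at h3
          have := Nat.le_of_dvd two_pos h3
          omega)
      obtain ⟨β, hβN, -, hβe, hβw⟩ := hdiag a 2 ha
      exact ⟨β, w, hβN, ⟨_, hβe⟩, hw, 0, by rw [zpow_zero, mul_one]; exact hβw⟩
    · push Not at hmove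
      obtain ⟨d, hd⟩ := Subgroup.mem_zpowers_iff.mp (hmove g₁)
      exact ⟨g₁, _, he.mem_normalizer hH.plane (hmove g₁), ⟨d, hd.symm⟩, hX₁e, 0, by
        rw [zpow_zero, mul_one]; exact hg₁E⟩
  obtain ⟨d, hd⟩ := hge
  obtain ⟨Y, rfl⟩ := QuotientGroup.mk_surjective e
  obtain ⟨X, rfl⟩ := QuotientGroup.mk_surjective w
  obtain ⟨hXY, hgen⟩ := hH.basis he.ne hw
  set z0 := ⁅X, Y⁆ with hz0
  have hz1 : z0 ≠ 1 := fun h' => hXY (commutatorElement_eq_one_iff_mul_comm.mp h')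
  have hzc : ∀ c : ↥N', Commute z0 c := fun c =>
    (Subgroup.mem_center_iff.mp (hH.comm_le (MetaClosed.cm X Y)) c).symm
  -- `T` fixes the commutator
  have hTz : ∀ r : ↥R, Commute (r : Ω) (z0 : Ω) := by
    intro r
    obtain ⟨j, hj⟩ := Subgroup.mem_zpowers_iff.mp (he.quot _ (hTcg r) (QuotientGroup.mk X))
    have h1 := hH.map_comm (cg (F := F) hN'S r : MulAut ↥N') (x := X) (y := Y) (b := 1) (d := 1) (j := j)
      (by rw [zpow_one]; exact he.fixed _ (hTcg r))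
      (by rw [zpow_one, hj, mul_inv_cancel_left]; rfl)
    rw [mul_one, zpow_one] at h1
    have h2 := congrArg Subtype.val h1
    rw [cg_apply] at h2
    exact mul_inv_eq_iff_eq_mul.mp h2
  obtain ⟨t, htT, htfix⟩ := he.moved
  obtain ⟨r₀, hr₀⟩ : ∃ r : ↥R, cg hN'S r = t := by
    have := (hTmem _).mp htT
    rw [← range_conjAutHom] at this
    obtain ⟨r, hr'⟩ := this
    exact ⟨r, Subtype.ext hr'⟩
  obtain ⟨k₁, hk₁⟩ : ∃ k : ℤ, (t : MulAut ↥N') Y = Y * z0 ^ k := by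
    have h1 := QuotientGroup.eq.mp (he.fixed t htT : ψ t (QuotientGroup.mk Y) = QuotientGroup.mk Y).symm
    rw [hH.center_eq hXY] at h1
    obtain ⟨k, hk⟩ := Subgroup.mem_zpowers_iff.mp h1
    exact ⟨k, eq_mul_of_inv_mul_eq hk.symm⟩
  obtain ⟨r, hrdef⟩ : ∃ r : ↥R, r = r₀ * ⟨((X ^ (-k₁) : ↥N') : Ω), hN'R (X ^ (-k₁)).2⟩ := ⟨_, rfl⟩
  have hψr : ψ (cg hN'S r) = ψ t := by rw [hrdef, cg_mul, map_mul, hψinn, mul_one, hr₀]
  have hrY : Commute (r : Ω) (Y : Ω) := by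
    refine mul_inv_eq_iff_eq_mul.mp ?_
    have e1 : (r : Ω) * Y * (r : Ω)⁻¹ = (r₀ : Ω) * ((X ^ (-k₁) * Y * (X ^ (-k₁))⁻¹ : ↥N') : Ω) * (r₀ : Ω)⁻¹ := by
      rw [hrdef]
      push_cast
      group
    rw [e1, hH.conj_zpow_eq, ← cg_apply (F := F) hN'S r₀, hr₀, map_mul, map_zpow, hk₁]
    congr 1
    have htz : (t : MulAut ↥N') z0 = z0 := by
      refine Subtype.ext ?_
      rw [← hr₀, cg_apply, (hTz r₀).eq, mul_inv_cancel_right]
    rw [← hz0, htz, ((hzc Y).zpow_left k₁).symm.eq, ← mul_assoc, ← zpow_add, neg_add_cancel, zpow_zero, one_mul]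
  have hψt : ψ t ≠ 1 := fun h' => hw (htfix _ (by rw [h']; rfl))
  have hrN : (r : Ω) ∉ N' := fun h' => hψt (by rw [← hψr]; exact hψinn ⟨r, h'⟩)
  have hrz := hTz r
  have hCY : ∀ u : ↥N', Commute (u : Ω) (Y : Ω) → ∃ i k : ℤ, u = Y ^ i * z0 ^ k := by
    intro u hu
    obtain ⟨i, j, k, rfl⟩ := hgen u
    obtain ⟨q, rfl⟩ := hH.dvd_left hXY (Subtype.ext hu.eq)
    exact ⟨j, k, by rw [zpow_mul X, zpow_natCast, hH.pow, one_zpow, one_mul]⟩
  have hrcom : ∀ i k : ℤ, Commute (r : Ω) ((Y ^ i * z0 ^ k : ↥N') : Ω) := fun i k => by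
    push_cast
    exact (hrY.zpow_right i).mul_right (hrz.zpow_right k)
  have hrpN : (r : Ω) ^ p ∈ N' := by
    have h1 := mem_N' (r ^ p) (by rw [cg_pow, map_pow, hψr]; exact he.pow_eq_one hH.plane htT)
    rwa [Subgroup.coe_pow] at h1
  obtain ⟨rp, hrp⟩ : ∃ u : ↥N', (u : Ω) = (r : Ω) ^ p := ⟨⟨_, hrpN⟩, rfl⟩
  obtain ⟨i, k, hik⟩ := hCY rp (by rw [hrp]; exact hrY.pow_left p)
  obtain ⟨k, hrk⟩ : ∃ k : ℤ, (r : Ω) ^ p = ((z0 ^ k : ↥N') : Ω) := by
    refine ⟨k, ?_⟩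
    let ℓ : ↥N' := ⟨(r : Ω)⁻¹ * X * (r : Ω) * (X : Ω)⁻¹, N'.mul_mem (by
      have := conj_mem_of_mem_normalizer (Subgroup.inv_mem _ r.2.2) X.2
      rwa [inv_inv] at this) (N'.inv_mem X.2)⟩
    have hconj : (X : Ω) * r * (X : Ω)⁻¹ = (r : Ω) * ℓ := by
      show (X : Ω) * r * (X : Ω)⁻¹ = (r : Ω) * ((r : Ω)⁻¹ * X * (r : Ω) * (X : Ω)⁻¹)
      group
    have hℓY : Commute (ℓ : Ω) (Y : Ω) := by
      have h1 : (r : Ω) * (ℓ : Ω) = (X : Ω) * r * (X : Ω)⁻¹ := hconj.symm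
      have h2 : Commute ((X : Ω) * r * (X : Ω)⁻¹) (Y : Ω) := by
        have hXY' : (X : Ω)⁻¹ * Y * X = ((⁅X, Y⁆ ^ (-1 : ℤ) * Y : ↥N') : Ω) := by
          rw [← hH.conj_zpow_eq X Y (-1)]
          push_cast
          group
        have h3 : Commute (r : Ω) ((X : Ω)⁻¹ * Y * X) := by
          rw [hXY', ← hz0]
          push_cast
          exact (hrz.zpow_right _).mul_right hrY
        have h4 := (Commute.conj_iff (X : Ω)).mpr h3
        rwa [show (X : Ω) * ((X : Ω)⁻¹ * Y * X) * (X : Ω)⁻¹ = Y by group] at h4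
      rw [← h1] at h2
      have := hrY.inv_left.mul_left h2
      rwa [inv_mul_cancel_left] at this
    obtain ⟨a, b, hab⟩ := hCY ℓ hℓY
    have hℓp : (ℓ : Ω) ^ p = 1 := by rw [← Subgroup.coe_pow, hH.pow]; rfl
    have h5 : (X : Ω) * (r : Ω) ^ p * (X : Ω)⁻¹ = (r : Ω) ^ p := by
      rw [← conj_pow, hconj, (show Commute (r : Ω) (ℓ : Ω) from hab ▸ hrcom a b).mul_pow, hℓp, mul_one]
    rw [← hrp] at h5 ⊢
    have h6 : Commute rp X := Subtype.ext (mul_inv_eq_iff_eq_mul.mp h5).symm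
    rw [hik] at h6
    obtain ⟨q, rfl⟩ := hH.dvd_right hXY (i := 0) (j := i) (k := k) (by rw [zpow_zero, one_mul]; exact h6)
    rw [hik, zpow_mul Y, zpow_natCast, hH.pow, one_zpow, one_mul]
  have hkp : ¬ (p : ℤ) ∣ k := by
    rintro ⟨q, rfl⟩
    rw [zpow_mul, zpow_natCast, hH.pow, one_zpow, Subgroup.coe_one] at hrk
    obtain ⟨a, b, hab⟩ := noThree hS hr (hN'S z0.2) (hN'S Y.2) r.2.1 (congrArg Subtype.val (hzc Y).eq)
      hrz.symm.eq hrY.symm.eq (congrArg Subtype.val (hH.pow z0)) (congrArg Subtype.val (hH.pow Y)) hrk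
      (fun h' => hz1 (Subtype.ext h')) (fun h' => hXY (by
        obtain ⟨m, hm⟩ := Subgroup.mem_zpowers_iff.mp h'
        rw [← Subgroup.coe_zpow] at hm
        rw [← Subtype.ext hm]
        exact ((hzc X).zpow_left m).symm.eq))
    apply hrN
    rw [hab]
    exact N'.mul_mem (N'.zpow_mem z0.2 a) (N'.zpow_mem Y.2 b)
  -- extend `g`
  obtain ⟨F', hF', hF'N, hF'R, hF'c⟩ := extend hS hF hN'n hTmem g hgN
  obtain ⟨r₂, hr₂⟩ : ∃ r₂ : ↥R, r₂ = ⟨F' r, hF'R r r.2⟩ := ⟨_, rfl⟩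
  have hcg2 : cg hN'S r₂ = g * cg hN'S r * g⁻¹ := hr₂ ▸ hF'c r (hF'R r r.2)
  obtain ⟨j, hj⟩ := Subgroup.mem_zpowers_iff.mp (he.quot t htT (QuotientGroup.mk X))
  have htX : ψ t (QuotientGroup.mk X) = QuotientGroup.mk X * (QuotientGroup.mk Y) ^ j := by
    rw [hj, mul_inv_cancel_left]
  obtain ⟨c, hc2⟩ : ∃ c : ℕ, ((c : ℕ) : ZMod p) * 2 = (d : ZMod p) := by
    refine ⟨((d : ZMod p) * (2 : ZMod p)⁻¹).val, ?_⟩
    rw [ZMod.natCast_zmod_val, mul_assoc, inv_mul_cancel₀ (by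
      intro h2
      have h3 : ((2 : ℕ) : ZMod p) = 0 := by exact_mod_cast h2
      rw [ZMod.natCast_eq_zero_iff] at h3
      have := Nat.le_of_dvd two_pos h3
      omega), mul_one]
  have hiter : ∀ m : ℕ, (ψ t ^ m) (QuotientGroup.mk X) = QuotientGroup.mk X * (QuotientGroup.mk Y) ^ (j * m) ∧
      (ψ t ^ m) (QuotientGroup.mk Y) = (QuotientGroup.mk Y : ↥N' ⧸ Subgroup.center ↥N') := by
    intro m
    induction m with
    | zero => simp
    | succ m ih =>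
      rw [pow_succ', MulAut.mul_apply, MulAut.mul_apply, ih.1, ih.2, map_mul, map_zpow, htX, he.fixed t htT]
      exact ⟨by rw [mul_assoc, ← zpow_add]; congr 2; push_cast; ring, rfl⟩
  have key : ψ g * ψ t = ψ t ^ c * ψ g := by
    refine MulEquiv.ext fun u => ?_
    obtain ⟨a, b, rfl⟩ := hH.plane.span he.ne hw u
    simp only [MulAut.mul_apply, map_mul, map_zpow, htX, he.fixed t htT, hd, hgw, (hiter c).1, (hiter c).2]
    congr 2
    rw [(show Commute (QuotientGroup.mk X : ↥N' ⧸ Subgroup.center ↥N') _ from hH.plane.comm _ _).mul_zpow,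
      ← zpow_mul, ← zpow_mul, mul_assoc, mul_assoc, ← zpow_add, ← zpow_add]
    congr 1
    refine zpow_congr (hH.plane.pow _) ?_
    push_cast
    linear_combination (-(j : ZMod p)) * hc2
  obtain ⟨n, hndef⟩ : ∃ n : ↥R, n = (r ^ c)⁻¹ * r₂ := ⟨_, rfl⟩
  have hψn : ψ (cg hN'S n) = 1 := by
    rw [hndef, cg_mul, map_mul, ← inv_mul_cancel (ψ (cg hN'S r) ^ c)]
    congr 1
    · rw [← map_pow, ← cg_pow, ← map_inv]
      congr 1
      exact Subtype.ext (map_inv (conjAutHom S N') _)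
    · rw [hcg2, map_mul, map_mul, map_inv, hψr, key, mul_inv_cancel_right]
  obtain ⟨nu, hnu⟩ : ∃ u : ↥N', (u : Ω) = n := ⟨⟨n, mem_N' n hψn⟩, rfl⟩
  have hFr : F' r = (r : Ω) ^ c * (nu : Ω) := by
    have e1 : ((r₂ : ↥R) : Ω) = (r : Ω) ^ c * (n : Ω) := by
      rw [hndef, Subgroup.coe_mul, Subgroup.coe_inv, Subgroup.coe_pow, mul_inv_cancel_left]
    rw [hnu, ← e1, hr₂]
  -- `nu` centralizes `Y`
  have hdp : ¬ (p : ℤ) ∣ d := by
    rintro ⟨q, rfl⟩
    rw [zpow_mul, zpow_natCast, hH.plane.pow, one_zpow] at hd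
    exact he.ne ((ψ g).injective (hd.trans (map_one _).symm))
  have hnY : Commute (nu : Ω) (Y : Ω) := by
    obtain ⟨m, hm⟩ : ∃ m : ℤ, (g : MulAut ↥N') Y = Y ^ d * z0 ^ m := by
      have h1 : (QuotientGroup.mk ((g : MulAut ↥N') Y) : ↥N' ⧸ Subgroup.center ↥N') = QuotientGroup.mk (Y ^ d) := hd
      have h2 := QuotientGroup.eq.mp h1.symm
      rw [hH.center_eq hXY] at h2
      obtain ⟨m, hm⟩ := Subgroup.mem_zpowers_iff.mp h2
      exact ⟨m, eq_mul_of_inv_mul_eq hm.symm⟩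
    have hrR : (r : Ω) ∈ R := r.2
    have h3 : Commute (F' r) (((g : MulAut ↥N') Y : ↥N') : Ω) := by
      rw [← hF'N Y]
      show F' r * F' Y = F' Y * F' r
      rw [← hF'.map_mul hrR (hN'R Y.2), hrY.eq, hF'.map_mul (hN'R Y.2) hrR]
    rw [hm, hFr] at h3
    have h4 : Commute (nu : Ω) ((Y ^ d * z0 ^ m : ↥N') : Ω) := by
      have := ((hrcom d m).pow_left c).inv_left.mul_left h3
      rwa [inv_mul_cancel_left] at this
    push_cast at h4
    have h5 := h4.mul_right ((show Commute (nu : Ω) (z0 : Ω) from congrArg Subtype.val (hzc nu).symm.eq).zpow_right m).inv_right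
    rw [mul_inv_cancel_right] at h5
    obtain ⟨u, v, huv⟩ := (Nat.prime_iff_prime_int.mp hp.out).coprime_iff_not_dvd.mpr hdp
    have hY : (Y : Ω) = ((Y : Ω) ^ d) ^ v := by
      conv_lhs => rw [← zpow_one (Y : Ω), ← huv, zpow_add, mul_comm u, zpow_mul, zpow_natCast,
        ← Subgroup.coe_pow, hH.pow, Subgroup.coe_one, one_zpow, one_mul, mul_comm v, zpow_mul]
    rw [hY]
    exact h5.zpow_right v
  obtain ⟨a, b, hab⟩ := hCY nu hnY
  have hnp : (nu : Ω) ^ p = 1 := by rw [← Subgroup.coe_pow, hH.pow]; rfl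
  have hF1 : F' ((r : Ω) ^ p) = ((z0 ^ (k * c) : ↥N') : Ω) := by
    rw [hF'.map_pow r.2, hFr, ((show Commute (r : Ω) (nu : Ω) from hab ▸ hrcom a b).pow_left c).mul_pow, hnp, mul_one,
      ← pow_mul, mul_comm c p, pow_mul, hrk, Subgroup.coe_zpow, Subgroup.coe_zpow, zpow_mul, zpow_natCast]
  have hF2 : F' ((r : Ω) ^ p) = ((z0 ^ (2 * d * k) : ↥N') : Ω) := by
    rw [hrk, hF'N, map_zpow]
    congr 1
    rw [hH.map_comm (g : MulAut ↥N') (x := X) (y := Y) (b := 2) (d := d) (j := s) hd hgw, ← hz0, ← zpow_mul]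
  have h7 : z0 ^ (k * c) = z0 ^ (2 * d * k) := Subtype.ext (hF1.symm.trans hF2)
  have h8 : z0 ^ (k * c - 2 * d * k) = 1 := by rw [zpow_sub, h7, mul_inv_cancel]
  have h9 : ((k * c - 2 * d * k : ℤ) : ZMod p) = 0 :=
    (ZMod.intCast_zmod_eq_zero_iff_dvd _ _).mpr (dvd_of_zpow_eq_one (hH.pow z0) hz1 h8)
  push_cast at h9
  have hk0 : (k : ZMod p) ≠ 0 := fun h' => hkp ((ZMod.intCast_zmod_eq_zero_iff_dvd _ _).mp h')
  have hd0 : (d : ZMod p) ≠ 0 := fun h' => hdp ((ZMod.intCast_zmod_eq_zero_iff_dvd _ _).mp h')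
  have h10 : (3 : ZMod p) * ((k : ZMod p) * (d : ZMod p)) = 0 := by
    linear_combination (-2 : ZMod p) * h9 + (k : ZMod p) * hc2
  have h11 : (3 : ZMod p) ≠ 0 := by
    intro h2
    have h3 : ((3 : ℕ) : ZMod p) = 0 := by exact_mod_cast h2
    rw [ZMod.natCast_eq_zero_iff] at h3
    have := Nat.le_of_dvd three_pos h3
    omega
  exact mul_ne_zero h11 (mul_ne_zero hk0 hd0) h10

end Cfsg.Agent.FG75.RankTwo
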