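import Mathlib
import Cfsg.Agent.LAE65.CyclicPGroup
import Cfsg.Agent.FG75.RankTwo.Local

/-!
# No essential subgroup detected on a nonabelian group of order `p³`
-/

set_option autoImplicit false
set_option linter.all false
set_option maxHeartbeats 800000

namespace Cfsg.Agent.FG75.RankTwo

open Cfsg
open Cfsg.Agent
open Cfsg.Agent.Fusion
open Cfsg.FusionSystem (normalizerIn centralizerIn)
open scoped commutatorElement

variable {p : ℕ} [hp : Fact p.Prime]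
variable {Ω : Type*} [Group Ω] {S : Subgroup Ω} [Finite S] {F : FusionSystem S}

theorem false_of_nonabelian (hp5 : 5 ≤ p) (hS : IsPGroup p S) (hF : F.IsSaturated p)
    (hr : ∀ A : Subgroup Ω, A ≤ S → Cfsg.IsElementaryAbelian p A → Nat.card A ≤ p ^ 2)
    {E : Subgroup Ω} (hn : F.IsFullyNormalized E) {T : Sylow p ↥(F.autGroup E)} (h : Data p F E T)
    (C : Subgroup ↥E) [C.Characteristic] (hC : Heis p ↥C)
    (hfaith : ∀ β : MulAut ↥E, (orderOf β).Coprime p → (∀ x ∈ C, β x = x) → β = 1) : False := by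
  haveI := h.finite
  haveI : Finite E := finite_of_le h.le
  haveI := h.inn_normal
  let φ : ↥(F.autGroup E) →* MulAut ↥C := (restrictChar C).comp (F.autGroup E).subtype
  let ψ : ↥(F.autGroup E) →* MulAut (↥C ⧸ Subgroup.center ↥C) := (quotCenter ↥C).comp φ
  have hkerφ : IsPGroup p φ.ker := by
    rintro ⟨g, hg⟩
    obtain ⟨k, hk⟩ := coprime_part (p := p) g
    refine ⟨k, Subtype.ext (Subtype.ext ?_)⟩
    show ((g ^ p ^ k : ↥(F.autGroup E)) : MulAut ↥E) = 1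
    refine hfaith _ (by rwa [Subgroup.orderOf_coe]) fun x hx => ?_
    have h1 : φ (g ^ p ^ k) = 1 := by rw [map_pow, MonoidHom.mem_ker.mp hg, one_pow]
    exact congrArg Subtype.val (MulEquiv.congr_fun h1 ⟨x, hx⟩)
  have hkerψ : IsPGroup p ψ.ker := by
    rintro ⟨g, hg⟩
    have h1 : g ^ p ∈ φ.ker := by
      rw [MonoidHom.mem_ker, map_pow]
      exact (hC.quot_trivial (φ g) hg).1
    obtain ⟨k, hk⟩ := hkerφ ⟨_, h1⟩
    refine ⟨k + 1, Subtype.ext ?_⟩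
    show g ^ p ^ (k + 1) = 1
    rw [pow_succ', pow_mul]
    exact congrArg Subtype.val hk
  obtain ⟨e, he, hmove, hinn⟩ := h.plane hC.plane ψ hkerψ
  obtain ⟨w, hwe, hdiag⟩ := he.exists_diag hC.plane hmove
  obtain ⟨Y, rfl⟩ := QuotientGroup.mk_surjective e
  obtain ⟨X, rfl⟩ := QuotientGroup.mk_surjective w
  obtain ⟨hXY, hgen⟩ := hC.basis he.ne hwe
  set z0 := ⁅X, Y⁆ with hz0
  have hz1 : z0 ≠ 1 := fun h' => hXY (commutatorElement_eq_one_iff_mul_comm.mp h')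
  have hzc : ∀ c : ↥C, Commute z0 c := fun c =>
    (Subgroup.mem_center_iff.mp (hC.comm_le (MetaClosed.cm X Y)) c).symm
  let v : ↥C →* Ω := E.subtype.comp C.subtype
  have hv : Function.Injective v := E.subtype_injective.comp C.subtype_injective
  have hvS : ∀ c : ↥C, v c ∈ S := fun c => h.le (c : ↥E).2
  -- inner automorphisms
  have hdec : ∀ a : ↥E, ∃ c : ↥C, ∀ x : ↥C, a * (x : ↥E) * a⁻¹ = c * x * (c : ↥E)⁻¹ := by
    intro a
    let α : ↥(F.autGroup E) := ⟨MulAut.conj a, inn_le_autGroup h.le ⟨a, rfl⟩⟩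
    obtain ⟨c, hc⟩ := hC.exists_inner hXY hgen (φ α) (hinn α ⟨a, rfl⟩)
    exact ⟨c, fun x => congrArg Subtype.val (hc x)⟩
  let K : Subgroup ↥E := Subgroup.centralizer (C : Set ↥E)
  have hKC : ∀ k ∈ K, ∀ c : ↥C, (c : ↥E) * k = k * c := fun k hk c => Subgroup.mem_centralizer_iff.mp hk c c.2
  have hsmall : ∀ k ∈ K, k ^ p = 1 → ∃ m : ℤ, k = ((z0 ^ m : ↥C) : ↥E) := by
    intro k hk hkp
    have hX1 : (X : ↥C) ≠ 1 := fun h' => hXY (by rw [h']; simp)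
    have hcomm : ∀ c : ↥C, v c * (k : Ω) = (k : Ω) * v c := fun c => congrArg Subtype.val (hKC k hk c)
    obtain ⟨i, j, hij⟩ := noThree hS hr (hvS z0) (hvS X) (h.le k.2) (by rw [← map_mul, (hzc X).eq, map_mul])
      (hcomm z0) (hcomm X) (by rw [← map_pow, hC.pow, map_one]) (by rw [← map_pow, hC.pow, map_one])
      (by rw [← Subgroup.coe_pow, hkp]; rfl) (fun h' => hz1 (hv (h'.trans (map_one v).symm))) (fun h' => hXY (by
        obtain ⟨m, hm⟩ := Subgroup.mem_zpowers_iff.mp h'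
        rw [← map_zpow] at hm
        rw [← hv hm]
        exact ((hzc Y).zpow_left m).eq))
    rw [← map_zpow, ← map_zpow, ← map_mul] at hij
    have hk' : k = ((z0 ^ i * X ^ j : ↥C) : ↥E) := Subtype.ext hij
    have hj : (p : ℤ) ∣ j := by
      refine hC.dvd_left hXY (i := j) (j := 0) (k := i) ?_
      rw [zpow_zero, mul_one, (((hzc (X ^ j)).zpow_left i)).symm.eq]
      refine hv ?_
      have := hcomm Y
      rw [hk'] at this
      rw [map_mul, map_mul]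
      exact this.symm
    obtain ⟨m, rfl⟩ := hj
    refine ⟨i, ?_⟩
    rw [hk', zpow_mul X, zpow_natCast, hC.pow, one_zpow, mul_one]
  haveI hKcyc : IsCyclic ↥K := by
    refine LAE65.isCyclic_of_unique_order_p (p := p) (by omega) ((hS.to_le h.le).to_subgroup K) fun x y hx hx1 hy => ?_
    obtain ⟨m, hm⟩ := hsmall x x.2 (by rw [← Subgroup.coe_pow, hx]; rfl)
    obtain ⟨n, hn'⟩ := hsmall y y.2 (by rw [← Subgroup.coe_pow, hy]; rfl)
    have hmp : ¬ (p : ℤ) ∣ m := by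
      rintro ⟨q, rfl⟩
      apply hx1
      apply Subtype.ext
      rw [hm, zpow_mul, zpow_natCast, hC.pow, one_zpow]
      rfl
    obtain ⟨s, t, hst⟩ := (Nat.prime_iff_prime_int.mp hp.out).coprime_iff_not_dvd.mpr hmp
    refine Subgroup.mem_zpowers_iff.mpr ⟨t * n, Subtype.ext ?_⟩
    rw [Subgroup.coe_zpow, hm, hn', ← Subgroup.coe_zpow, ← zpow_mul]
    congr 1
    exact zpow_congr (hC.pow z0) (by
      have : ((s * (p : ℤ) + t * m : ℤ) : ZMod p) = ((1 : ℤ) : ZMod p) := by rw [hst]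
      push_cast at this ⊢
      rw [ZMod.natCast_self, mul_zero, zero_add] at this
      linear_combination (n : ZMod p) * this)
  have hKcomm : ∀ k ∈ K, ∀ a : ↥E, Commute k a := by
    intro k hk a
    obtain ⟨c, hc⟩ := hdec a
    have ha : (c : ↥E)⁻¹ * a ∈ K := Subgroup.mem_centralizer_iff.mpr fun x hx => by
      have := hc ⟨x, hx⟩
      calc x * ((c : ↥E)⁻¹ * a) = (c : ↥E)⁻¹ * ((c : ↥E) * x * (c : ↥E)⁻¹) * a := by group
        _ = (c : ↥E)⁻¹ * (a * x * a⁻¹) * a := by rw [← this]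
        _ = _ := by group
    obtain ⟨g, hg⟩ := hKcyc.exists_generator
    obtain ⟨i, hi⟩ := Subgroup.mem_zpowers_iff.mp (hg ⟨k, hk⟩)
    obtain ⟨j, hj⟩ := Subgroup.mem_zpowers_iff.mp (hg ⟨_, ha⟩)
    have h1 : Commute k ((c : ↥E)⁻¹ * a) := by
      have := congrArg Subtype.val ((Commute.refl g).zpow_zpow i j).eq
      rw [hi, hj] at this
      exact this
    have h2 := (show Commute k (c : ↥E) from (hKC k hk c).symm).mul_right h1
    rwa [mul_inv_cancel_left] at h2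
  -- the diagonal element
  obtain ⟨b, hb⟩ : ∃ b : ℕ, ((2 * b : ℕ) : ZMod p) = 1 := by
    refine ⟨(2 : ZMod p)⁻¹.val, ?_⟩
    push_cast
    rw [ZMod.natCast_zmod_val]
    exact mul_inv_cancel₀ (by
      intro h2
      have h3 : ((2 : ℕ) : ZMod p) = 0 := by exact_mod_cast h2
      rw [ZMod.natCast_eq_zero_iff] at h3
      have := Nat.le_of_dvd two_pos h3
      omega)
  obtain ⟨β, hβN, hβcop, hβY, hβX⟩ := hdiag 2 b hb
  have hβz : φ β z0 = z0 := by
    have := hC.map_comm (φ β) (x := X) (y := Y) (b := b) (d := 2) (j := 0)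
      (by exact hβY) (by rw [zpow_zero, mul_one]; exact hβX)
    rw [this]
    conv_rhs => rw [← zpow_one z0]
    refine zpow_congr (hC.pow z0) ?_
    push_cast at hb ⊢
    linear_combination hb
  have hKinv : ∀ x ∈ K, (β : MulAut ↥E) x ∈ K := by
    intro x hx
    refine Subgroup.mem_centralizer_iff.mpr fun c hc => ?_
    have hc' : (β : MulAut ↥E).symm c ∈ C :=
      (Subgroup.characteristic_iff_le_comap.mp inferInstance (β : MulAut ↥E).symm) hc
    have := congrArg (β : MulAut ↥E) (hKC x hx ⟨_, hc'⟩)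
    rwa [map_mul, map_mul, MulEquiv.apply_symm_apply] at this
  have hβK : ∀ k ∈ K, (β : MulAut ↥E) k = k := by
    intro k hk
    obtain ⟨γ, hγ, hγo⟩ := Fus93.exists_restrict (β : MulAut ↥E) K hKinv
    have hγ1 : γ = 1 := by
      refine Fus93.eq_one_of_fixes_small ((hS.to_le h.le).to_subgroup K)
        (Nat.Coprime.coprime_dvd_left hγo (by rwa [Subgroup.orderOf_coe])) fun x hx => Subtype.ext ?_
      rcases hx with hx | ⟨h2, -⟩
      · obtain ⟨m, hm⟩ := hsmall x x.2 (by rw [← Subgroup.coe_pow, hx]; rfl)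
        rw [hγ, hm]
        have := congrArg Subtype.val (show φ β (z0 ^ m) = z0 ^ m by rw [map_zpow, hβz])
        exact this
      · omega
    have := hγ ⟨k, hk⟩
    rw [hγ1] at this
    exact this.symm
  obtain ⟨f, hf, hfE, hfN, hfc⟩ := extend hS hF hn h.mem_T β hβN
  -- the element `r`
  obtain ⟨t, htT, htfix⟩ := he.moved
  obtain ⟨r₀, hr₀⟩ := h.exists_cg htT
  let N := normalizerIn S E
  have hNE : E ≤ N := le_normalizerIn h.le
  let nE : ↥E → ↥N := fun a => ⟨a, hNE a.2⟩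
  have hφapp : ∀ (r : ↥N) (c : ↥C), v (φ (cg h.le r) c) = r * v c * (r : Ω)⁻¹ := fun r c => rfl
  have hψinn : ∀ a : ↥E, ψ (cg h.le (nE a)) = 1 := fun a => hinn _ (Subgroup.mem_subgroupOf.mpr
    (mem_inn.mpr ⟨a, a.2, fun x => rfl⟩))
  have htz : φ t z0 = z0 := by
    obtain ⟨j, hj⟩ := Subgroup.mem_zpowers_iff.mp (he.quot t htT (QuotientGroup.mk X))
    have := hC.map_comm (φ t) (x := X) (y := Y) (b := 1) (d := 1) (j := j)
      (by rw [zpow_one]; exact he.fixed t htT)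
      (by rw [zpow_one, hj, mul_inv_cancel_left]; rfl)
    rw [this, mul_one, zpow_one]
  obtain ⟨s, hs⟩ : ∃ s : ℤ, φ t Y = Y * z0 ^ s := by
    have h1 := QuotientGroup.eq.mp (he.fixed t htT : ψ t (QuotientGroup.mk Y) = QuotientGroup.mk Y).symm
    rw [hC.center_eq hXY] at h1
    obtain ⟨s, hs⟩ := Subgroup.mem_zpowers_iff.mp h1
    exact ⟨s, eq_mul_of_inv_mul_eq hs.symm⟩
  obtain ⟨r, hrdef⟩ : ∃ r : ↥N, r = r₀ * nE ((X ^ (-s) : ↥C) : ↥E) := ⟨_, rfl⟩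
  have hψr : ψ (cg h.le r) = ψ t := by rw [hrdef, cg_mul, map_mul, hψinn, mul_one, hr₀]
  have hrY : (r : Ω) * v Y * (r : Ω)⁻¹ = v Y := by
    have e1 : (r : Ω) * v Y * (r : Ω)⁻¹ = (r₀ : Ω) * v (X ^ (-s) * Y * (X ^ (-s))⁻¹) * (r₀ : Ω)⁻¹ := by
      rw [hrdef, map_mul, map_mul, map_inv]
      show (r₀ : Ω) * v (X ^ (-s)) * v Y * ((r₀ : Ω) * v (X ^ (-s)))⁻¹ = _
      group
    rw [e1, hC.conj_zpow_eq, ← hz0, ← hφapp, hr₀, map_mul, map_zpow, htz, hs, ((hzc Y).zpow_left s).symm.eq,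
      ← mul_assoc, ← zpow_add, neg_add_cancel, zpow_zero, one_mul]
  have hrz : (r : Ω) * v z0 * (r : Ω)⁻¹ = v z0 := by
    have e1 : (r : Ω) * v z0 * (r : Ω)⁻¹ = (r₀ : Ω) * v (X ^ (-s) * z0 * (X ^ (-s))⁻¹) * (r₀ : Ω)⁻¹ := by
      rw [hrdef, map_mul, map_mul, map_inv]
      show (r₀ : Ω) * v (X ^ (-s)) * v z0 * ((r₀ : Ω) * v (X ^ (-s)))⁻¹ = _
      group
    rw [e1, ← (hzc _).eq, mul_inv_cancel_right, ← hφapp, hr₀, htz]
  have hψt : ψ t ≠ 1 := fun h' => hwe (htfix _ (by rw [h']; rfl))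
  have hrE : (r : Ω) ∉ E := fun h' => hψt (hψr ▸ hψinn ⟨r, h'⟩)
  have mem_E : ∀ n : ↥N, ψ (cg h.le n) = 1 → (n : Ω) ∈ E := fun n hn' =>
    h.mem_of_inn n (h.core _ inferInstance hkerψ (MonoidHom.mem_ker.mpr hn'))
  obtain ⟨r₂, hr₂⟩ : ∃ r₂ : ↥N, r₂ = ⟨f r, hfN r r.2⟩ := ⟨_, rfl⟩
  have hcg2 : cg h.le r₂ = β * cg h.le r * β⁻¹ := hr₂ ▸ hfc r (hfN r r.2)
  obtain ⟨n, hndef⟩ : ∃ n : ↥N, n = (r ^ 4)⁻¹ * r₂ := ⟨_, rfl⟩
  have hψn : ψ (cg h.le n) = 1 := by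
    obtain ⟨j, hj⟩ := Subgroup.mem_zpowers_iff.mp (he.quot t htT (QuotientGroup.mk X))
    have htX : ψ t (QuotientGroup.mk X) = QuotientGroup.mk X * (QuotientGroup.mk Y) ^ j := by
      rw [hj, mul_inv_cancel_left]
    have hiter : ∀ m : ℕ, (ψ t ^ m) (QuotientGroup.mk X) = QuotientGroup.mk X * (QuotientGroup.mk Y) ^ (j * m) ∧
        (ψ t ^ m) (QuotientGroup.mk Y) = (QuotientGroup.mk Y : ↥C ⧸ Subgroup.center ↥C) := by
      intro m
      induction m with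
      | zero => simp
      | succ m ih =>
        rw [pow_succ', MulAut.mul_apply, MulAut.mul_apply, ih.1, ih.2, map_mul, map_zpow, htX, he.fixed t htT]
        exact ⟨by rw [mul_assoc, ← zpow_add]; congr 2; push_cast; ring, rfl⟩
    have key : ψ β * ψ t = ψ t ^ 4 * ψ β := by
      refine MulEquiv.ext fun u => ?_
      obtain ⟨i, k, rfl⟩ := hC.plane.span he.ne hwe u
      simp only [MulAut.mul_apply, map_mul, map_zpow, htX, he.fixed t htT, hβY, hβX, (hiter 4).1, (hiter 4).2]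
      congr 2
      rw [(show Commute (QuotientGroup.mk X : ↥C ⧸ Subgroup.center ↥C) _ from hC.plane.comm _ _).mul_zpow,
        ← zpow_mul, ← zpow_mul]
      congr 1
      refine zpow_congr (hC.plane.pow _) ?_
      push_cast at hb ⊢
      linear_combination (-2 * (j : ZMod p)) * hb
    rw [hndef, cg_mul, map_mul, ← inv_mul_cancel (ψ (cg h.le r) ^ 4)]
    congr 1
    · rw [← map_pow, ← cg_pow]
      rw [← map_inv]
      congr 1
      exact Subtype.ext (map_inv (conjAutHom S E) _)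
    · rw [hcg2, map_mul, map_mul, map_inv, hψr, key, mul_inv_cancel_right]
  obtain ⟨a, ha⟩ : ∃ a : ↥E, (a : Ω) = n := ⟨⟨n, mem_E n hψn⟩, rfl⟩
  have hfr : f r = (r : Ω) ^ 4 * a := by
    have e1 : ((r₂ : ↥N) : Ω) = (r : Ω) ^ 4 * (n : Ω) := by
      rw [hndef, Subgroup.coe_mul, Subgroup.coe_inv, Subgroup.coe_pow, mul_inv_cancel_left]
    rw [ha, ← e1, hr₂]
  have hrN : (r : Ω) ∈ N := r.2
  -- `r` centralizes `K`
  have hrK : ∀ k ∈ K, Commute (r : Ω) (k : Ω) := by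
    intro k hk
    have hk' : (⟨(r : Ω) * k * (r : Ω)⁻¹, conj_mem_of_mem_normalizer hrN.2 k.2⟩ : ↥E) ∈ K := by
      refine Subgroup.mem_centralizer_iff.mpr fun c hc => ?_
      have hc' : ((cg h.le r : ↥(F.autGroup E)) : MulAut ↥E).symm c ∈ C :=
        (Subgroup.characteristic_iff_le_comap.mp inferInstance _) hc
      have := congrArg ((cg (F := F) h.le r : ↥(F.autGroup E)) : MulAut ↥E) (hKC k hk ⟨_, hc'⟩)
      rw [map_mul, map_mul, MulEquiv.apply_symm_apply] at this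
      exact this
    have h1 : f ((r : Ω) * k * (r : Ω)⁻¹) = (r : Ω) * k * (r : Ω)⁻¹ := by
      rw [show (r : Ω) * k * (r : Ω)⁻¹ = ((⟨_, conj_mem_of_mem_normalizer hrN.2 k.2⟩ : ↥E) : Ω) from rfl, hfE,
        hβK _ hk']
    rw [hf.map_conj hrN (hNE k.2), hfE k, hβK k hk, hfr] at h1
    have hak : (a : Ω) * k = k * a := congrArg Subtype.val (hKcomm k hk a).eq.symm
    have h2 : (r : Ω) ^ 4 * k * ((r : Ω) ^ 4)⁻¹ = (r : Ω) * k * (r : Ω)⁻¹ := by
      rw [← h1, mul_assoc ((r : Ω) ^ 4) (a : Ω) (k : Ω), hak]; group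
    have h3 : Commute ((r : Ω) ^ 3) (k : Ω) := by
      have := congrArg (fun u => (r : Ω)⁻¹ * u * (r : Ω)) h2
      show (r : Ω) ^ 3 * k = k * (r : Ω) ^ 3
      rw [← mul_inv_eq_iff_eq_mul]
      have e : (r : Ω) ^ 4 = (r : Ω) * (r : Ω) ^ 3 := pow_succ' _ _
      rw [e] at this
      group at this ⊢
      exact this
    obtain ⟨m, hm⟩ := hS ⟨(r : Ω), r.2.1⟩
    have hm' : (r : Ω) ^ p ^ m = 1 := congrArg Subtype.val hm
    have hcop : Nat.Coprime 3 (p ^ m) := Nat.Coprime.pow_right _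
      ((Nat.coprime_primes Nat.prime_three hp.out).mpr (by omega))
    obtain ⟨u, u', huu⟩ := Int.isCoprime_iff_gcd_eq_one.mpr (show Int.gcd (3 : ℤ) ((p ^ m : ℕ) : ℤ) = 1 from hcop)
    have h5 : (r : Ω) = ((r : Ω) ^ 3) ^ u := by
      conv_lhs => rw [← zpow_one (r : Ω), ← huu, zpow_add, mul_comm u', zpow_mul _ ((p ^ m : ℕ) : ℤ), zpow_natCast,
        hm', one_zpow, mul_one, mul_comm u, zpow_mul, zpow_ofNat]
    rw [h5]
    exact h3.zpow_left u
  -- structure of the centralizer of `Y` in `E`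
  have hCY : ∀ b : ↥E, Commute (b : Ω) (v Y) → ∃ i : ℤ, ∃ k ∈ K, b = ((Y ^ i : ↥C) : ↥E) * k := by
    intro b hbY
    obtain ⟨c, hc⟩ := hdec b
    have hbK : (c : ↥E)⁻¹ * b ∈ K := Subgroup.mem_centralizer_iff.mpr fun x hx => by
      have := hc ⟨x, hx⟩
      calc x * ((c : ↥E)⁻¹ * b) = (c : ↥E)⁻¹ * ((c : ↥E) * x * (c : ↥E)⁻¹) * b := by group
        _ = (c : ↥E)⁻¹ * (b * x * b⁻¹) * b := by rw [← this]
        _ = _ := by group
    obtain ⟨i, j, l, rfl⟩ := hgen c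
    have hcY : Commute (X ^ i * Y ^ j * z0 ^ l) Y := by
      refine Subtype.ext ?_
      have h1 := hc Y
      have h2 : b * (Y : ↥E) * b⁻¹ = Y := by
        rw [(show Commute b (Y : ↥E) from Subtype.ext hbY).eq, mul_inv_cancel_right]
      rw [h2] at h1
      exact (eq_mul_inv_iff_mul_eq.mp h1).symm
    obtain ⟨q, rfl⟩ := hC.dvd_left hXY hcY
    have hzK : ((z0 ^ l : ↥C) : ↥E) ∈ K := Subgroup.mem_centralizer_iff.mpr fun x hx =>
      congrArg Subtype.val (((hzc ⟨x, hx⟩).zpow_left l).symm.eq)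
    refine ⟨j, _, K.mul_mem hzK hbK, ?_⟩
    rw [zpow_mul X, zpow_natCast, hC.pow, one_zpow, one_mul] at hbK ⊢
    rw [Subgroup.coe_mul, mul_inv_rev, ← mul_assoc, ← mul_assoc, ← mul_assoc, mul_assoc _ _ b]
    group
  have hrY' : Commute (r : Ω) (v Y) := mul_inv_eq_iff_eq_mul.mp hrY
  have haY : Commute (a : Ω) (v Y) := by
    have h1 : Commute (f r) (f (v Y)) := by
      have hYN : v Y ∈ N := hNE (Y : ↥E).2
      show f r * f (v Y) = f (v Y) * f r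
      rw [← hf.map_mul hrN hYN, hrY'.eq, hf.map_mul hYN hrN]
    have h2 : ∃ m : ℤ, f (v Y) = v (Y ^ (2 : ℤ) * z0 ^ m) := by
      have h3 : (QuotientGroup.mk (φ β Y) : ↥C ⧸ Subgroup.center ↥C) = QuotientGroup.mk (Y ^ (2 : ℤ)) := by
        exact hβY
      have h4 := QuotientGroup.eq.mp h3.symm
      rw [hC.center_eq hXY] at h4
      obtain ⟨m, hm⟩ := Subgroup.mem_zpowers_iff.mp h4
      refine ⟨m, ?_⟩
      rw [hm, mul_inv_cancel_left]
      exact hfE (Y : ↥E)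
    obtain ⟨m, hm⟩ := h2
    rw [hm, hfr, map_mul, map_zpow, map_zpow] at h1
    have hrz' : Commute (r : Ω) (v z0) := mul_inv_eq_iff_eq_mul.mp hrz
    have hbase : Commute (r : Ω) (v Y ^ (2 : ℤ) * v z0 ^ m) := (hrY'.zpow_right 2).mul_right (hrz'.zpow_right m)
    have h5 : Commute (a : Ω) (v Y ^ (2 : ℤ) * v z0 ^ m) := by
      have := ((hbase.pow_left 4).inv_left).mul_left h1
      rwa [inv_mul_cancel_left] at this
    have haz : Commute (a : Ω) (v z0) := by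
      obtain ⟨c, hc⟩ := hdec a
      have := hc z0
      rw [show (c : ↥E) * z0 * (c : ↥E)⁻¹ = ((z0 : ↥C) : ↥E) from
        congrArg Subtype.val (show c * z0 * c⁻¹ = z0 by rw [← (hzc c).eq, mul_inv_cancel_right])] at this
      exact congrArg Subtype.val (mul_inv_eq_iff_eq_mul.mp this)
    have h6 := h5.mul_right ((haz.zpow_right m).inv_right)
    rw [mul_inv_cancel_right, ← map_zpow] at h6
    have h7 : v Y = v (Y ^ (2 : ℤ)) ^ (b : ℤ) := by
      rw [← map_zpow, ← zpow_mul]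
      congr 1
      conv_lhs => rw [← zpow_one Y]
      exact zpow_congr (hC.pow Y) (by push_cast at hb ⊢; exact hb.symm)
    rw [h7]
    exact h6.zpow_right _
  obtain ⟨i₁, k, hk, hak⟩ := hCY a haY
  -- the `p`-th power of `r`
  have hrpE : (r : Ω) ^ p ∈ E := by
    have := mem_E (r ^ p) (by rw [cg_pow, map_pow, hψr]; exact he.pow_eq_one hC.plane htT)
    simpa using this
  obtain ⟨i, k₀, hk₀, hrp⟩ := hCY ⟨(r : Ω) ^ p, hrpE⟩ (hrY'.pow_left p)
  have hrp' : (r : Ω) ^ p = v Y ^ i * (k₀ : Ω) := by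
    have := congrArg Subtype.val hrp
    rw [← map_zpow]
    exact this
  have hcKY : ∀ (k : ↥E), k ∈ K → ∀ c : ↥C, Commute (k : Ω) (v c) := fun k hk c =>
    (congrArg Subtype.val (hKC k hk c)).symm
  have hrz' : Commute (r : Ω) (v z0) := mul_inv_eq_iff_eq_mul.mp hrz
  have hfrp : f ((r : Ω) ^ p) = (v Y ^ (4 * i) * (k₀ : Ω) ^ 4) * (k : Ω) ^ p := by
    rw [hf.map_pow hrN, hfr, hak, Subgroup.coe_mul]
    have hc1 : Commute ((r : Ω) ^ 4) (((Y ^ i₁ : ↥C) : ↥E) : Ω) := by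
      show Commute ((r : Ω) ^ 4) (v (Y ^ i₁))
      rw [map_zpow]; exact (hrY'.zpow_right _).pow_left 4
    rw [(hc1.mul_right ((hrK k hk).pow_left 4)).mul_pow, (show Commute (((Y ^ i₁ : ↥C) : ↥E) : Ω) (k : Ω) from (hcKY k hk (Y ^ i₁)).symm).mul_pow, ← pow_mul, mul_comm 4 p,
      pow_mul, hrp', ((hcKY k₀ hk₀ Y).zpow_right i).symm.mul_pow, ← zpow_natCast (v Y ^ i), ← zpow_mul, mul_comm i]
    have h1 : (((Y ^ i₁ : ↥C) : ↥E) : Ω) ^ p = 1 := by
      show v (Y ^ i₁) ^ p = 1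
      rw [← map_pow, hC.pow, map_one]
    rw [h1, one_mul]
    rfl
  have hfrp' : ∃ m : ℤ, f ((r : Ω) ^ p) = v Y ^ (2 * i) * v z0 ^ m * (k₀ : Ω) := by
    have h4 := QuotientGroup.eq.mp (show (QuotientGroup.mk (φ β Y) : ↥C ⧸ Subgroup.center ↥C) = QuotientGroup.mk (Y ^ (2 : ℤ)) from hβY).symm
    rw [hC.center_eq hXY] at h4
    obtain ⟨m, hm⟩ := Subgroup.mem_zpowers_iff.mp h4
    refine ⟨m * i, ?_⟩
    have h5 : f ((r : Ω) ^ p) = v ((φ β Y) ^ i) * (k₀ : Ω) := by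
      rw [show (r : Ω) ^ p = ((⟨_, hrpE⟩ : ↥E) : Ω) from rfl, hfE, hrp, map_mul, Subgroup.coe_mul, hβK _ hk₀,
        ← map_zpow (φ β)]
      rfl
    rw [h5, show φ β Y = Y ^ (2 : ℤ) * z0 ^ m from by rw [hm, mul_inv_cancel_left]]
    rw [((hzc _).zpow_left m).symm.mul_zpow, ← zpow_mul, ← zpow_mul, map_mul, map_zpow, map_zpow]
  obtain ⟨m, hm⟩ := hfrp'
  -- `Y ^ i` is trivial
  have hzK : ∀ l : ℤ, ((z0 ^ l : ↥C) : ↥E) ∈ K := fun l => Subgroup.mem_centralizer_iff.mpr fun x hx =>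
    congrArg Subtype.val (((hzc ⟨x, hx⟩).zpow_left l).symm.eq)
  have hYK : ((Y ^ (4 * i - 2 * i) : ↥C) : ↥E) ∈ K := by
    have e1 : ((Y ^ (4 * i - 2 * i) : ↥C) : ↥E) = ((z0 ^ m : ↥C) : ↥E) * k₀ * (k₀ ^ 4 * k ^ p)⁻¹ := by
      apply Subtype.ext
      have h6 := hfrp.symm.trans hm
      show v (Y ^ (4 * i - 2 * i)) = v (z0 ^ m) * (k₀ : Ω) * ((k₀ : Ω) ^ 4 * (k : Ω) ^ p)⁻¹
      rw [map_zpow, map_zpow, sub_eq_neg_add, zpow_add, eq_mul_inv_iff_mul_eq, mul_assoc,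
        ← mul_assoc (v Y ^ (4 * i)), h6, zpow_neg, mul_assoc (v Y ^ (2 * i)), inv_mul_cancel_left]
    rw [e1]
    exact K.mul_mem (K.mul_mem (hzK m) hk₀) (K.inv_mem (K.mul_mem (K.pow_mem hk₀ 4) (K.pow_mem hk p)))
  have hi : (p : ℤ) ∣ i := by
    have h1 := hC.dvd_right hXY (i := 0) (j := 4 * i - 2 * i) (k := 0) (by
      rw [zpow_zero, one_mul, zpow_zero, mul_one]
      refine Subtype.ext ?_
      exact (hKC _ hYK X).symm)
    have h2 : (p : ℤ) ∣ 2 * i := by rwa [show 4 * i - 2 * i = 2 * i by ring] at h1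
    refine ((Nat.prime_iff_prime_int.mp hp.out).dvd_or_dvd h2).resolve_left fun h3 => ?_
    have := Int.le_of_dvd two_pos h3
    omega
  obtain ⟨q, rfl⟩ := hi
  have hYp : v Y ^ p = 1 := by rw [← map_pow, hC.pow, map_one]
  have hone : ∀ l : ℤ, v Y ^ (l * ((p : ℤ) * q)) = 1 := fun l => by
    rw [mul_left_comm, zpow_mul, zpow_natCast, hYp, one_zpow]
  have hrk : (r : Ω) ^ p = k₀ := by rw [hrp', zpow_mul, zpow_natCast, hYp, one_zpow, one_mul]
  have hk₀fix : f ((r : Ω) ^ p) = k₀ := by rw [hrk, hfE, hβK _ hk₀]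
  rw [hone 4, one_mul, hk₀fix] at hfrp
  have h3k : (k₀ : Ω) ^ 3 = ((k : Ω) ^ p)⁻¹ := by
    refine eq_inv_of_mul_eq_one_left ?_
    have h7 : (k₀ : Ω) * ((k₀ : Ω) ^ 3 * (k : Ω) ^ p) = (k₀ : Ω) * 1 := by
      rw [mul_one, ← mul_assoc, ← pow_succ']; exact hfrp.symm
    exact mul_left_cancel h7
  obtain ⟨u, u', huu⟩ := Int.isCoprime_iff_gcd_eq_one.mpr
    (show Int.gcd (3 : ℤ) (p : ℤ) = 1 from (Nat.coprime_primes Nat.prime_three hp.out).mpr (by omega))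
  obtain ⟨k₁, hk₁, hk₁p⟩ : ∃ k₁ ∈ K, (k₁ : Ω) ^ p = k₀ := by
    refine ⟨k ^ (-u) * k₀ ^ u', K.mul_mem (K.zpow_mem hk _) (K.zpow_mem hk₀ _), ?_⟩
    rw [Subgroup.coe_mul, Subgroup.coe_zpow, Subgroup.coe_zpow,
      ((show Commute (k : Ω) (k₀ : Ω) from congrArg Subtype.val (hKcomm k hk k₀).eq).zpow_zpow (-u) u').mul_pow]
    calc ((k : Ω) ^ (-u)) ^ p * ((k₀ : Ω) ^ u') ^ p
        = (((k : Ω) ^ p)⁻¹) ^ u * (k₀ : Ω) ^ (u' * (p : ℤ)) := by
          rw [← zpow_natCast ((k : Ω) ^ (-u)), ← zpow_mul, mul_comm (-u), zpow_mul, zpow_natCast, zpow_neg, inv_zpow,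
            ← zpow_natCast ((k₀ : Ω) ^ u'), ← zpow_mul]
      _ = (k₀ : Ω) ^ (u * 3 + u' * (p : ℤ)) := by
          rw [← h3k, ← zpow_natCast (k₀ : Ω) 3, ← zpow_mul, zpow_add, mul_comm u]; rfl
      _ = k₀ := by rw [huu, zpow_one]
  set r' := (r : Ω) * (k₁ : Ω)⁻¹ with hr'
  have hr'p : r' ^ p = 1 := by
    rw [hr', ((hrK k₁ hk₁).inv_right).mul_pow, inv_pow, hk₁p, hrk, mul_inv_cancel]
  have hr'S : r' ∈ S := S.mul_mem r.2.1 (S.inv_mem (h.le k₁.2))
  obtain ⟨i', j', hij⟩ := noThree hS hr (hvS z0) (hvS Y) hr'S (by rw [← map_mul, (hzc Y).eq, map_mul])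
    ((hrz'.mul_left ((hcKY k₁ hk₁ z0).inv_left)).symm.eq) ((hrY'.mul_left ((hcKY k₁ hk₁ Y).inv_left)).symm.eq)
    (by rw [← map_pow, hC.pow, map_one]) hYp hr'p
    (fun h' => hz1 (hv (h'.trans (map_one v).symm))) (fun h' => hXY (by
      obtain ⟨l, hl⟩ := Subgroup.mem_zpowers_iff.mp h'
      rw [← map_zpow] at hl
      rw [← hv hl]
      exact ((hzc X).zpow_left l).symm.eq))
  apply hrE
  have : (r : Ω) = v (z0 ^ i' * Y ^ j') * (k₁ : Ω) := by
    rw [map_mul, map_zpow, map_zpow, ← hij, hr', inv_mul_cancel_right]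
  rw [this]
  exact E.mul_mem (((z0 ^ i' * Y ^ j' : ↥C) : ↥E)).2 k₁.2

end Cfsg.Agent.FG75.RankTwo
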