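import Mathlib
import Cfsg.Agent.FG75.RankTwo.Cube
import Cfsg.Agent.FG75.RankTwo.Nonabelian

/-!
# Rank two `p`-groups, `p ≥ 5`, are resistant
-/

set_option autoImplicit false
set_option linter.all false

namespace Cfsg.Agent.FG75.RankTwo

open Cfsg
open Cfsg.Agent
open Cfsg.Agent.Fusion
open Cfsg.FusionSystem (normalizerIn centralizerIn)

variable {p : ℕ} [hp : Fact p.Prime]
variable {Ω : Type*} [Group Ω] {S : Subgroup Ω} [Finite S] {F : FusionSystem S}

theorem not_essential (hp5 : 5 ≤ p) (hS : IsPGroup p S) (hF : F.IsSaturated p)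
    (hr : ∀ A : Subgroup Ω, A ≤ S → Cfsg.IsElementaryAbelian p A → Nat.card A ≤ p ^ 2)
    (hnotE : ¬ (Nat.card S = p ^ 3 ∧ Monoid.exponent ↥S = p))
    {E : Subgroup Ω} (hE : F.IsEssential p E) (hlt : E < S) : False := by
  obtain ⟨T, h⟩ := data_of hS hF hE.1 hE.2.1 (Fusion.isRadical_of_essential hS hE) hlt
  haveI := h.finite
  haveI : Finite E := finite_of_le h.le
  have hEp : IsPGroup p ↥E := hS.to_le h.le
  obtain ⟨C, hCchar, hCsmall, hfaith⟩ := Fus93.exists_small_faithful hEp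
  haveI := hCchar
  have hCp : ∀ c : ↥C, c ^ p = 1 := fun c => by
    rcases hCsmall c c.2 with h1 | ⟨h1, -⟩
    · exact Subtype.ext (by rw [Subgroup.coe_pow]; exact h1)
    · omega
  rcases small_cases (hEp.to_subgroup C) hCp
      (noThree_type hS hr (E.subtype.comp C.subtype) (E.subtype_injective.comp C.subtype_injective)
        fun c => h.le (c : ↥E).2) with hC | hC | hC
  · -- the automorphisms of `C` have order prime to `p`
    let φ : ↥(F.autGroup E) →* MulAut ↥C := (restrictChar C).comp (F.autGroup E).subtype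
    have hker : IsPGroup p φ.ker := by
      rintro ⟨g, hg⟩
      obtain ⟨k, hk⟩ := coprime_part (p := p) g
      refine ⟨k, Subtype.ext (Subtype.ext ?_)⟩
      show ((g ^ p ^ k : ↥(F.autGroup E)) : MulAut ↥E) = 1
      refine hfaith _ (by rwa [Subgroup.orderOf_coe]) fun x hx => ?_
      have h1 : φ (g ^ p ^ k) = 1 := by rw [map_pow, MonoidHom.mem_ker.mp hg, one_pow]
      exact congrArg Subtype.val (MulEquiv.congr_fun h1 ⟨x, hx⟩)
    haveI := h.inn_normal
    refine h.not_le fun t ht => h.core _ inferInstance hker (MonoidHom.mem_ker.mpr ?_)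
    obtain ⟨k, hk⟩ := T.2 ⟨t, ht⟩
    have hφk : φ t ^ p ^ k = 1 := by
      rw [← map_pow, show t ^ p ^ k = 1 from congrArg Subtype.val hk, map_one]
    have hdvd : Nat.card ↥(⊤ : Subgroup ↥C) ∣ p := by
      obtain ⟨n, hn⟩ := IsPGroup.iff_card.mp (hEp.to_subgroup C)
      rw [Subgroup.card_top, hn]
      rw [hn] at hC
      have : n ≤ 1 := (Nat.pow_le_pow_iff_right hp.out.one_lt).mp (by rwa [pow_one])
      interval_cases n <;> simp
    exact MulEquiv.ext fun c => MetaClosed.aut_fixes (φ t) hφk ⊤ (fun _ _ => trivial) hdvd c trivial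
  · exact false_of_pearl hp5 hS hF hr hE.1 hE.2.1 (pearl_of_abelian hp5 hS hF hr hnotE hE.2.1 h C hC hfaith)
  · exact false_of_nonabelian hp5 hS hF hr hE.2.1 h C hC hfaith

theorem resistant (hp5 : 5 ≤ p) (hS : IsPGroup p S) (hF : F.IsSaturated p)
    (hr : ∀ A : Subgroup Ω, A ≤ S → Cfsg.IsElementaryAbelian p A → Nat.card A ≤ p ^ 2)
    (hnotE : ¬ (Nat.card S = p ^ 3 ∧ Monoid.exponent ↥S = p)) : F.IsNormal S := by
  refine Fusion.isNormal_of_invariant hS hF fun R hR => ?_
  rcases hR with rfl | hR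
  · exact ⟨le_rfl, fun α _ => autFun_image α⟩
  · rcases eq_or_lt_of_le hR.1.1 with rfl | hlt
    · exact ⟨le_rfl, fun α _ => autFun_image α⟩
    · exact (not_essential hp5 hS hF hr hnotE hR hlt).elim

end Cfsg.Agent.FG75.RankTwo
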